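import Mathlib

set_option autoImplicit false

namespace Cfsg.Agent.Lib.Helper41

open scoped Pointwise

variable {G : Type*} [Group G]

theorem centralizer_conj_smul (x : G) (H : Subgroup G) :
    Subgroup.centralizer ((MulAut.conj x • H : Subgroup G) : Set G) =
      MulAut.conj x • Subgroup.centralizer (H : Set G) := by
  ext g
  rw [Subgroup.mem_pointwise_smul_iff_inv_smul_mem, MulAut.smul_def, MulAut.conj_inv_apply,
    Subgroup.mem_centralizer_iff, Subgroup.mem_centralizer_iff]
  constructor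
  · intro h k hk
    have h1 := h (x * k * x⁻¹) (by
      rw [SetLike.mem_coe, Subgroup.mem_pointwise_smul_iff_inv_smul_mem, MulAut.smul_def,
        MulAut.conj_inv_apply]
      have : x⁻¹ * (x * k * x⁻¹) * x = k := by group
      rw [this]; exact hk)
    calc k * (x⁻¹ * g * x) = x⁻¹ * ((x * k * x⁻¹) * g) * x := by group
      _ = x⁻¹ * (g * (x * k * x⁻¹)) * x := by rw [h1]
      _ = x⁻¹ * g * x * k := by group
  · intro h k hk
    rw [SetLike.mem_coe, Subgroup.mem_pointwise_smul_iff_inv_smul_mem, MulAut.smul_def,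
        MulAut.conj_inv_apply] at hk
    have h1 := h _ hk
    calc k * g = x * ((x⁻¹ * k * x) * (x⁻¹ * g * x)) * x⁻¹ := by group
      _ = x * ((x⁻¹ * g * x) * (x⁻¹ * k * x)) * x⁻¹ := by rw [h1]
      _ = g * k := by group

theorem normalizer_conj_smul (x : G) (H : Subgroup G) :
    Subgroup.normalizer ((MulAut.conj x • H : Subgroup G) : Set G) =
      MulAut.conj x • Subgroup.normalizer (H : Set G) := by
  ext g
  rw [Subgroup.mem_pointwise_smul_iff_inv_smul_mem, MulAut.smul_def, MulAut.conj_inv_apply,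
    Subgroup.mem_normalizer_iff, Subgroup.mem_normalizer_iff]
  have key : ∀ k : G, k ∈ MulAut.conj x • H ↔ x⁻¹ * k * x ∈ H := by
    intro k
    rw [Subgroup.mem_pointwise_smul_iff_inv_smul_mem, MulAut.smul_def, MulAut.conj_inv_apply]
  constructor
  · intro h k
    have h1 := h (x * k * x⁻¹)
    rw [key, key] at h1
    have e1 : x⁻¹ * (x * k * x⁻¹) * x = k := by group
    have e2 : x⁻¹ * (g * (x * k * x⁻¹) * g⁻¹) * x = x⁻¹ * g * x * k * (x⁻¹ * g * x)⁻¹ := by group
    rw [e1, e2] at h1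
    exact h1
  · intro h k
    rw [key, key]
    have h1 := h (x⁻¹ * k * x)
    have e2 : x⁻¹ * g * x * (x⁻¹ * k * x) * (x⁻¹ * g * x)⁻¹ = x⁻¹ * (g * k * g⁻¹) * x := by group
    rw [e2] at h1
    exact h1

/-- Sylow `ℓ`-subgroups inside an abelian "torus" `T` which is the centraliser of each of its
elements `g` with `g² ≠ 1`. -/
theorem sylow_in_torus [Finite G] (T : Subgroup G) (hcomm : ∀ a ∈ T, ∀ b ∈ T, a * b = b * a)
    (ℓ : ℕ) [Fact ℓ.Prime] (hℓ2 : ℓ ≠ 2) (hℓT : ℓ ∣ Nat.card T) (hidx : ¬ ℓ ∣ T.index)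
    (hC : ∀ g ∈ T, g * g ≠ 1 → Subgroup.centralizer ({g} : Set G) = T)
    (P : Sylow ℓ G) :
    ∃ x : G, Subgroup.centralizer ((P : Subgroup G) : Set G) = MulAut.conj x • T ∧
      Subgroup.normalizer ((P : Subgroup G) : Set G) = MulAut.conj x • Subgroup.normalizer (T : Set G) := by
  have hℓ : ℓ.Prime := Fact.out
  let Q : Sylow ℓ T := default
  set P₀ : Subgroup G := (Q : Subgroup T).map T.subtype with hP₀
  have hP₀T : P₀ ≤ T := by
    rintro _ ⟨y, _, rfl⟩
    exact y.2
  have hp : IsPGroup ℓ P₀ := Q.2.map T.subtype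
  have hidx' : ¬ ℓ ∣ P₀.index := by
    rw [hP₀, Subgroup.index_map_subtype]
    exact Nat.Prime.not_dvd_mul hℓ Q.not_dvd_index hidx
  -- characterisation of P₀
  have hchar : ∀ y : G, y ∈ P₀ ↔ y ∈ T ∧ ∃ k : ℕ, y ^ (ℓ ^ k) = 1 := by
    intro y
    constructor
    · intro hy
      refine ⟨hP₀T hy, ?_⟩
      obtain ⟨k, hk⟩ := hp ⟨y, hy⟩
      exact ⟨k, congrArg Subtype.val hk⟩
    · rintro ⟨hyT, k, hk⟩
      have hnorm : (Subgroup.zpowers (⟨y, hyT⟩ : T)).Normal := by
        constructor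
        intro n hn g
        have : g * n * g⁻¹ = n := by
          have h1 : g * n = n * g := Subtype.ext (hcomm g g.2 n n.2)
          rw [h1, mul_assoc, mul_inv_cancel, mul_one]
        rw [this]; exact hn
      have hpz : IsPGroup ℓ (Subgroup.zpowers (⟨y, hyT⟩ : T)) := by
        rintro ⟨g, hg⟩
        obtain ⟨i, rfl⟩ := Subgroup.mem_zpowers_iff.1 hg
        refine ⟨k, ?_⟩
        apply Subtype.ext
        apply Subtype.ext
        simp only [Subgroup.coe_pow, Subgroup.coe_zpow, Subgroup.coe_one]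
        rw [← zpow_natCast, ← zpow_mul, mul_comm, zpow_mul, zpow_natCast, hk, one_zpow]
      have := hpz.le_sylow_of_normal Q (Subgroup.mem_zpowers _)
      exact ⟨⟨y, hyT⟩, this, rfl⟩
  -- a nontrivial element
  obtain ⟨g₀, hg₀, hg₀1⟩ : ∃ g₀ ∈ P₀, g₀ ≠ 1 := by
    obtain ⟨y, hy⟩ := exists_prime_orderOf_dvd_card' (G := T) ℓ hℓT
    refine ⟨y, (hchar y).2 ⟨y.2, 1, ?_⟩, ?_⟩
    · rw [pow_one, ← Subgroup.coe_pow, ← hy, pow_orderOf_eq_one, Subgroup.coe_one]
    · intro h
      have : y = 1 := Subtype.ext h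
      rw [this, orderOf_one] at hy
      exact hℓ.one_lt.ne hy
  have hg₀sq : g₀ * g₀ ≠ 1 := by
    intro h
    obtain ⟨k, hk⟩ := ((hchar g₀).1 hg₀).2
    have h1 : orderOf g₀ ∣ 2 := orderOf_dvd_of_pow_eq_one (by rw [pow_two]; exact h)
    have h2 : orderOf g₀ ∣ ℓ ^ k := orderOf_dvd_of_pow_eq_one hk
    have hcop : Nat.Coprime 2 (ℓ ^ k) :=
      Nat.Coprime.pow_right k ((Nat.coprime_primes Nat.prime_two hℓ).2 (Ne.symm hℓ2))
    have h3 : orderOf g₀ = 1 := Nat.eq_one_of_dvd_coprimes hcop h1 h2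
    exact hg₀1 (orderOf_eq_one_iff.1 h3)
  have hCP₀ : Subgroup.centralizer (P₀ : Set G) = T := by
    apply le_antisymm
    · rw [← hC g₀ (hP₀T hg₀) hg₀sq]
      exact Subgroup.centralizer_le (by simpa using hg₀)
    · intro y hy
      rw [Subgroup.mem_centralizer_iff]
      intro k hk
      exact hcomm k (hP₀T hk) y hy
  have hNP₀ : Subgroup.normalizer (P₀ : Set G) = Subgroup.normalizer (T : Set G) := by
    apply le_antisymm
    · intro g hg
      have h1 : MulAut.conj g • P₀ = P₀ := by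
        ext k
        rw [Subgroup.mem_pointwise_smul_iff_inv_smul_mem, MulAut.smul_def, MulAut.conj_inv_apply]
        have := (Subgroup.mem_normalizer_iff.1 (Subgroup.inv_mem _ hg)) k
        rw [inv_inv] at this
        exact this.symm
      have h2 := centralizer_conj_smul g P₀
      rw [h1, hCP₀] at h2
      rw [Subgroup.mem_normalizer_iff]
      intro k
      constructor
      · intro hk
        rw [h2, Subgroup.mem_pointwise_smul_iff_inv_smul_mem, MulAut.smul_def, MulAut.conj_inv_apply]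
        have : g⁻¹ * (g * k * g⁻¹) * g = k := by group
        rw [this]; exact hk
      · intro hk
        rw [h2, Subgroup.mem_pointwise_smul_iff_inv_smul_mem, MulAut.smul_def, MulAut.conj_inv_apply] at hk
        have : g⁻¹ * (g * k * g⁻¹) * g = k := by group
        rw [this] at hk; exact hk
    · intro g hg
      rw [Subgroup.mem_normalizer_iff] at hg ⊢
      intro k
      rw [hchar, hchar, ← hg k]
      apply and_congr_right
      intro _
      apply exists_congr
      intro j
      rw [conj_pow]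
      constructor
      · intro h; rw [h]; group
      · intro h
        have : k ^ ℓ ^ j = g⁻¹ * (g * k ^ ℓ ^ j * g⁻¹) * g := by group
        rw [this, h]; group
  obtain ⟨x, hx⟩ := MulAction.exists_smul_eq G (hp.toSylow hidx') P
  have hP : (P : Subgroup G) = MulAut.conj x • P₀ := by
    rw [← hx, Sylow.coe_subgroup_smul, IsPGroup.toSylow_coe]
  refine ⟨x, ?_, ?_⟩
  · rw [hP, centralizer_conj_smul, hCP₀]
  · rw [hP, normalizer_conj_smul, hNP₀]

end Cfsg.Agent.Lib.Helper41
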