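import Cfsg.Agent.Lib.Helper41.SL2Profile

/-!
# Degrees and values of the irreducible characters of `SL₂(F)`, `q` odd
-/

set_option autoImplicit false
set_option linter.unusedSectionVars false

namespace Cfsg.Agent.Lib.Helper41

open Cfsg Cfsg.Agent.Lib.Helper15
open scoped ComplexConjugate

variable {F : Type*} [Field F] [Fintype F] [DecidableEq F]

/-- `bor r s` is conjugate to `bor r 0` when `r² ≠ 1`. -/
theorem cf_bor_eq {f : Matrix.SpecialLinearGroup (Fin 2) F → ℂ}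
    (hf : IsClassFunction (Matrix.SpecialLinearGroup (Fin 2) F) f) (r : Fˣ) (s : F)
    (hr : r ^ 2 ≠ 1) : f (bor r s) = f (bor r 0) := by
  have hne : ((r⁻¹ : Fˣ) : F) - (r : F) ≠ 0 := by
    intro h
    apply hr
    apply Units.ext
    rw [Units.val_pow_eq_pow_val, Units.val_one]
    have h1 : ((r⁻¹ : Fˣ) : F) * (r : F) = 1 := by simp
    rw [sub_eq_zero.1 h] at h1
    rw [sq]; exact h1
  obtain ⟨t, ht⟩ : ∃ t : F, t * (((r⁻¹ : Fˣ) : F) - (r : F)) = s := ⟨_, div_mul_cancel₀ _ hne⟩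
  have : bor r s = bor 1 t * bor r 0 * (bor 1 t)⁻¹ := by
    apply Subtype.ext
    rw [Matrix.SpecialLinearGroup.coe_mul, Matrix.SpecialLinearGroup.coe_mul,
      Matrix.SpecialLinearGroup.coe_inv, bor_coe, bor_coe, bor_coe, Matrix.adjugate_fin_two_of]
    simp only [Matrix.mul_fin_two]
    ext i j
    fin_cases i <;> fin_cases j <;> simp
    rw [← ht]
    simp
    ring
  rw [this, hf]

/-- value of a class function at a regular diagonal element -/
theorem value_split [Fintype (MulChar F ℂ)] {f : Matrix.SpecialLinearGroup (Fin 2) F → ℂ}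
    (hf : IsClassFunction (Matrix.SpecialLinearGroup (Fin 2) F) f) (r : Fˣ) (hr : r ^ 2 ≠ 1) :
    ∑ β : MulChar F ℂ, conj (β (r : F)) * classInner (psR β) f = conj (f (bor r 0)) := by
  rw [sum_conj_mul_classInner_psR f hf r]
  simp_rw [cf_bor_eq hf r _ hr]
  rw [Finset.sum_const, Finset.card_univ, nsmul_eq_mul]
  have hq : (Fintype.card F : ℂ) ≠ 0 := cardF_ne_zero
  field_simp

namespace NSGen

variable (T : NSGen F)

section odd
variable (hodd : Fintype.card F % 2 = 1)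
include hodd

/-- classification together with the degrees, as natural numbers -/
theorem classification_deg {χ : Matrix.SpecialLinearGroup (Fin 2) F → ℂ}
    (hχ : IsIrrCharacter (Matrix.SpecialLinearGroup (Fin 2) F) χ) :
    ∃ d : ℕ, χ 1 = (d : ℂ) ∧
    ((χ = one' ∧ d = 1) ∨ (χ = St ∧ d = Fintype.card F) ∨
    ((∃ β : MulChar F ℂ, β ≠ β⁻¹ ∧ χ = psR β) ∧ d = Fintype.card F + 1) ∨
    ((∃ β : MulChar F ℂ, β = β⁻¹ ∧ β ≠ 1 ∧ classInner (psR β) χ ≠ 0) ∧ 2 * d = Fintype.card F + 1) ∨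
    ((∃ θ : T.C →* ℂˣ, θ ≠ θ⁻¹ ∧ χ = T.X hodd θ) ∧ d + 1 = Fintype.card F) ∨
    ((∃ θ : T.C →* ℂˣ, θ = θ⁻¹ ∧ θ ≠ 1 ∧ classInner (T.X hodd θ) χ ≠ 0) ∧
      2 * d + 1 = Fintype.card F)) := by
  obtain ⟨d, _, hd⟩ := Cfsg.Agent.Lib.Helper26.irr_degree hχ
  refine ⟨d, hd, ?_⟩
  rcases T.classification hodd hχ with h | h | ⟨β, hβ, h⟩ | ⟨β, hβ, hβ1, h⟩ | ⟨θ, hθ, h⟩ |
    ⟨θ, hθ, hθ1, h⟩
  · left
    refine ⟨h, ?_⟩
    rw [h, one'] at hd
    exact_mod_cast hd.symm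
  · right; left
    refine ⟨h, ?_⟩
    rw [h, St_one] at hd
    exact_mod_cast hd.symm
  · right; right; left
    refine ⟨⟨β, hβ, h⟩, ?_⟩
    rw [h, psR_one_apply_one] at hd
    exact_mod_cast hd.symm
  · right; right; right; left
    refine ⟨⟨β, hβ, hβ1, h⟩, ?_⟩
    have := degree_halfP hodd hχ β hβ hβ1 h
    rw [hd] at this
    have h3 : ((2 * d : ℕ) : ℂ) = ((Fintype.card F + 1 : ℕ) : ℂ) := by
      push_cast; rw [this]; ring
    exact_mod_cast h3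
  · right; right; right; right; left
    refine ⟨⟨θ, hθ, h⟩, ?_⟩
    rw [h, X_one] at hd
    have h3 : ((d + 1 : ℕ) : ℂ) = ((Fintype.card F : ℕ) : ℂ) := by
      push_cast; rw [← hd]; ring
    exact_mod_cast h3
  · right; right; right; right; right
    refine ⟨⟨θ, hθ, hθ1, h⟩, ?_⟩
    have := T.degree_halfD hodd hχ θ hθ hθ1 h
    rw [hd] at this
    have h3 : ((2 * d + 1 : ℕ) : ℂ) = ((Fintype.card F : ℕ) : ℂ) := by
      push_cast; rw [this]; ring
    exact_mod_cast h3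

theorem type_of_degree_q_add_one {χ : Matrix.SpecialLinearGroup (Fin 2) F → ℂ}
    (hχ : IsIrrCharacter (Matrix.SpecialLinearGroup (Fin 2) F) χ)
    (hdeg : χ 1 = (Fintype.card F : ℂ) + 1) : ∃ β : MulChar F ℂ, β ≠ β⁻¹ ∧ χ = psR β := by
  obtain ⟨T⟩ := exists_NSGen (F := F)
  have hq : 2 ≤ Fintype.card F := Fintype.one_lt_card
  obtain ⟨d, hd, h⟩ := T.classification_deg hodd hχ
  have hd' : d = Fintype.card F + 1 := by
    rw [hd] at hdeg
    exact_mod_cast hdeg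
  rcases h with ⟨_, h⟩ | ⟨_, h⟩ | ⟨h', h⟩ | ⟨_, h⟩ | ⟨_, h⟩ | ⟨_, h⟩
  · omega
  · omega
  · exact h'
  · omega
  · omega
  · omega

theorem type_of_degree_q {χ : Matrix.SpecialLinearGroup (Fin 2) F → ℂ}
    (hχ : IsIrrCharacter (Matrix.SpecialLinearGroup (Fin 2) F) χ)
    (hdeg : χ 1 = (Fintype.card F : ℂ)) : χ = St := by
  obtain ⟨T⟩ := exists_NSGen (F := F)
  have hq : 2 ≤ Fintype.card F := Fintype.one_lt_card
  obtain ⟨d, hd, h⟩ := T.classification_deg hodd hχ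
  have hd' : d = Fintype.card F := by
    rw [hd] at hdeg
    exact_mod_cast hdeg
  rcases h with ⟨_, h⟩ | ⟨h', h⟩ | ⟨_, h⟩ | ⟨_, h⟩ | ⟨_, h⟩ | ⟨_, h⟩
  · omega
  · exact h'
  · omega
  · omega
  · omega
  · omega

theorem type_of_degree_q_sub_one (hq5 : 5 ≤ Fintype.card F)
    {χ : Matrix.SpecialLinearGroup (Fin 2) F → ℂ}
    (hχ : IsIrrCharacter (Matrix.SpecialLinearGroup (Fin 2) F) χ)
    (hdeg : χ 1 = (Fintype.card F : ℂ) - 1) : ∃ θ : T.C →* ℂˣ, θ ≠ θ⁻¹ ∧ χ = T.X hodd θ := by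
  obtain ⟨d, hd, h⟩ := T.classification_deg hodd hχ
  have hd' : d + 1 = Fintype.card F := by
    rw [hd] at hdeg
    have h3 : ((d + 1 : ℕ) : ℂ) = ((Fintype.card F : ℕ) : ℂ) := by
      push_cast; rw [hdeg]; ring
    exact_mod_cast h3
  rcases h with ⟨_, h⟩ | ⟨_, h⟩ | ⟨_, h⟩ | ⟨_, h⟩ | ⟨h', h⟩ | ⟨_, h⟩
  · omega
  · omega
  · omega
  · omega
  · exact h'
  · omega

theorem type_of_degree_halfP (hq5 : 5 ≤ Fintype.card F)
    {χ : Matrix.SpecialLinearGroup (Fin 2) F → ℂ}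
    (hχ : IsIrrCharacter (Matrix.SpecialLinearGroup (Fin 2) F) χ)
    (hdeg : χ 1 = (((Fintype.card F + 1) / 2 : ℕ) : ℂ)) :
    ∃ β : MulChar F ℂ, β = β⁻¹ ∧ β ≠ 1 ∧ classInner (psR β) χ ≠ 0 := by
  obtain ⟨T⟩ := exists_NSGen (F := F)
  obtain ⟨d, hd, h⟩ := T.classification_deg hodd hχ
  have hd' : d = (Fintype.card F + 1) / 2 := by
    rw [hd] at hdeg
    exact_mod_cast hdeg
  rcases h with ⟨_, h⟩ | ⟨_, h⟩ | ⟨_, h⟩ | ⟨h', h⟩ | ⟨_, h⟩ | ⟨_, h⟩
  · omega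
  · omega
  · omega
  · exact h'
  · omega
  · omega

theorem type_of_degree_halfD (hq5 : 5 ≤ Fintype.card F)
    {χ : Matrix.SpecialLinearGroup (Fin 2) F → ℂ}
    (hχ : IsIrrCharacter (Matrix.SpecialLinearGroup (Fin 2) F) χ)
    (hdeg : χ 1 = (((Fintype.card F - 1) / 2 : ℕ) : ℂ)) :
    ∃ θ : T.C →* ℂˣ, θ = θ⁻¹ ∧ θ ≠ 1 ∧ classInner (T.X hodd θ) χ ≠ 0 := by
  obtain ⟨d, hd, h⟩ := T.classification_deg hodd hχ
  have hd' : d = (Fintype.card F - 1) / 2 := by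
    rw [hd] at hdeg
    exact_mod_cast hdeg
  rcases h with ⟨_, h⟩ | ⟨_, h⟩ | ⟨_, h⟩ | ⟨_, h⟩ | ⟨_, h⟩ | ⟨h', h⟩
  · omega
  · omega
  · omega
  · omega
  · omega
  · exact h'

/-- values of the half principal series characters at regular diagonal elements -/
theorem halfP_split {χ : Matrix.SpecialLinearGroup (Fin 2) F → ℂ}
    (hχ : IsIrrCharacter (Matrix.SpecialLinearGroup (Fin 2) F) χ)
    (β : MulChar F ℂ) (hβ : β = β⁻¹) (hβ1 : β ≠ 1) (h : classInner (psR β) χ ≠ 0)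
    (r : Fˣ) (hr : r ^ 2 ≠ 1) : χ (bor r 0) = β (r : F) := by
  classical
  obtain ⟨T⟩ := exists_NSGen (F := F)
  have : Fintype (MulChar F ℂ) := Fintype.ofFinite _
  have h1 := value_split (irr_cf hχ) r hr
  simp_rw [(T.profile_halfP hodd hχ β hβ hβ1 h).1] at h1
  simp only [mul_ite, mul_one, mul_zero] at h1
  rw [Finset.sum_ite_eq' Finset.univ β, if_pos (Finset.mem_univ _)] at h1
  have := congrArg (starRingEnd ℂ) h1
  simpa using this.symm

/-- values of the half discrete series characters on the non-split torus -/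
theorem halfD_nonsplit {χ : Matrix.SpecialLinearGroup (Fin 2) F → ℂ}
    (hχ : IsIrrCharacter (Matrix.SpecialLinearGroup (Fin 2) F) χ)
    (θ : T.C →* ℂˣ) (hθ : θ = θ⁻¹) (hθ1 : θ ≠ 1) (h : classInner (T.X hodd θ) χ ≠ 0)
    (c : T.C) (hc : (c : Matrix.SpecialLinearGroup (Fin 2) F) ∉ Subgroup.center _) :
    χ c = - ((θ c : ℂˣ) : ℂ) := by
  classical
  have : Fintype (T.C →* ℂˣ) := Fintype.ofFinite _
  have h1 := T.sum_conj_mul_classInner_X hodd χ (irr_cf hχ) c hc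
  simp_rw [(T.profile_halfD hodd hχ θ hθ hθ1 h).2] at h1
  simp only [mul_ite, mul_one, mul_zero] at h1
  rw [Finset.sum_ite_eq' Finset.univ θ, if_pos (Finset.mem_univ _)] at h1
  have := congrArg (starRingEnd ℂ) h1
  simp only [Complex.conj_conj, map_neg] at this
  rw [this]; ring

end odd

end NSGen

end Cfsg.Agent.Lib.Helper41
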