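import Cfsg.Agent.Lib.Helper41.SL2Eigen
import Cfsg.Agent.Lib.Helper41.SL2Invol

set_option autoImplicit false

namespace Cfsg.Agent.Lib.Helper41

open Matrix Polynomial

section general

variable {L : Type*} [Field L]

theorem trace_pow_of_eigen (M : Matrix (Fin 2) (Fin 2) L) (l m : L)
    (h : M * M = (l + m) • M - (l * m) • (1 : Matrix (Fin 2) (Fin 2) L))
    (htr : Matrix.trace M = l + m) (k : ℕ) : Matrix.trace (M ^ k) = l ^ k + m ^ k := by
  induction k using Nat.twoStepInduction with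
  | zero => simp [Matrix.trace_fin_two]; norm_num
  | one => simpa using htr
  | more k ih0 ih1 =>
    have : M ^ (k + 2) = (l + m) • M ^ (k + 1) - (l * m) • M ^ k := by
      rw [pow_add, pow_two, h, mul_sub, mul_smul_comm, mul_smul_comm, mul_one, pow_succ]
    rw [this, Matrix.trace_sub, Matrix.trace_smul, Matrix.trace_smul, ih0, ih1]
    simp only [smul_eq_mul]
    ring

end general

section ext

variable {F : Type*} [Field F] {L : Type*} [Field L] [Algebra F L]

theorem toL_trace (X : Matrix.SpecialLinearGroup (Fin 2) F) :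
    Matrix.trace (toL L X) = algebraMap F L (Matrix.trace (X : Matrix (Fin 2) (Fin 2) F)) := by
  unfold toL
  simp [Matrix.trace_fin_two]

theorem toL_pow (X : Matrix.SpecialLinearGroup (Fin 2) F) (k : ℕ) :
    toL L (X ^ k) = toL L X ^ k := by
  unfold toL
  rw [Matrix.SpecialLinearGroup.coe_pow, map_pow]

theorem sl2_trace_pow_eigen (X : Matrix.SpecialLinearGroup (Fin 2) F) (l : L) (hl0 : l ≠ 0)
    (hl : l + l⁻¹ = algebraMap F L (Matrix.trace (X : Matrix (Fin 2) (Fin 2) F))) (k : ℕ) :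
    algebraMap F L (Matrix.trace ((X ^ k : Matrix.SpecialLinearGroup (Fin 2) F) : Matrix (Fin 2) (Fin 2) F)) =
      l ^ k + (l ^ k)⁻¹ := by
  rw [← toL_trace, toL_pow, trace_pow_of_eigen _ l l⁻¹ (toL_sq X l hl0 hl) (by rw [toL_trace, hl]), inv_pow]

theorem sl2_pow_eq_one_iff_eigen (X : Matrix.SpecialLinearGroup (Fin 2) F) (l : L) (hl0 : l ≠ 0)
    (hne : l ≠ l⁻¹)
    (hl : l + l⁻¹ = algebraMap F L (Matrix.trace (X : Matrix (Fin 2) (Fin 2) F))) (k : ℕ) :
    X ^ k = 1 ↔ l ^ k = 1 := by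
  rw [sl2_eq_one_iff, Matrix.SpecialLinearGroup.coe_pow, ← toL_pow_eq_one_iff (L := L)]
  have hsq := toL_sq X l hl0 hl
  have hns := toL_ne_smul_one X l hl0 hne
  constructor
  · intro h
    exact eigen_pow_of_pow_eq_smul_one _ l l⁻¹ hsq hns k 1 (by rw [h, one_smul])
  · intro h
    have := pow_eq_smul_one_of_eigen _ l l⁻¹ hne hsq k 1 h (by rw [inv_pow, h, inv_one])
    rw [this, one_smul]

theorem sl2_orderOf_eq_eigen (X : Matrix.SpecialLinearGroup (Fin 2) F) (l : L) (hl0 : l ≠ 0)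
    (hne : l ≠ l⁻¹)
    (hl : l + l⁻¹ = algebraMap F L (Matrix.trace (X : Matrix (Fin 2) (Fin 2) F))) :
    orderOf X = orderOf l :=
  orderOf_eq_orderOf_iff.2 (fun k => sl2_pow_eq_one_iff_eigen X l hl0 hne hl k)

theorem trace_sq_ne_four_of_eigen (t : F) (l : L) (hl0 : l ≠ 0) (hne : l ≠ l⁻¹)
    (hl : l + l⁻¹ = algebraMap F L t) : t ^ 2 ≠ 4 := by
  intro h
  have h1 : (l + l⁻¹) ^ 2 = 4 := by
    rw [hl, ← map_pow, h, map_ofNat]
  have h2 : (l - l⁻¹) ^ 2 = 0 := by
    have : l * l⁻¹ = 1 := mul_inv_cancel₀ hl0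
    linear_combination h1 - 4 * this
  exact hne (sub_eq_zero.1 (pow_eq_zero_iff (by norm_num) |>.1 h2))

theorem sl2_trace_inv (X : Matrix.SpecialLinearGroup (Fin 2) F) :
    Matrix.trace ((X⁻¹ : Matrix.SpecialLinearGroup (Fin 2) F) : Matrix (Fin 2) (Fin 2) F) =
      Matrix.trace (X : Matrix (Fin 2) (Fin 2) F) := by
  rw [Matrix.SpecialLinearGroup.coe_inv, Matrix.adjugate_fin_two, Matrix.trace_fin_two_of,
    Matrix.trace_fin_two, add_comm]

/-- an eigenvalue in the base field gives an eigenvector -/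
theorem exists_eigenvector_of_root (X : Matrix.SpecialLinearGroup (Fin 2) F) (r : F) (hr0 : r ≠ 0)
    (hr : r + r⁻¹ = Matrix.trace (X : Matrix (Fin 2) (Fin 2) F)) :
    ∃ v : Fin 2 → F, v ≠ 0 ∧ (X : Matrix (Fin 2) (Fin 2) F).mulVec v = r • v := by
  have hdet := sl2_det X
  have h0 : ((X : Matrix (Fin 2) (Fin 2) F) - r • (1 : Matrix (Fin 2) (Fin 2) F)).det = 0 := by
    rw [Matrix.det_fin_two]
    rw [Matrix.trace_fin_two] at hr
    simp
    have : r * r⁻¹ = 1 := mul_inv_cancel₀ hr0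
    linear_combination hdet + r * hr - this
  obtain ⟨v, hv0, hv⟩ := Matrix.exists_mulVec_eq_zero_iff.2 h0
  refine ⟨v, hv0, ?_⟩
  rw [Matrix.sub_mulVec, Matrix.smul_mulVec, Matrix.one_mulVec, sub_eq_zero] at hv
  exact hv

end ext

end Cfsg.Agent.Lib.Helper41
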