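import Cfsg.Agent.Lib.Helper41.SL2Degree
import Cfsg.Agent.Lib.Helper80.Inflation
import Cfsg.Agent.Lib.Helper61.SL2Char2
import Cfsg.Prelude.Def_DegreeGraph

/-!
# Character degrees of `SL₂(F)` and `PSL₂(F)`
-/

set_option autoImplicit false
set_option linter.unusedSectionVars false

namespace Cfsg.Agent.Lib.Helper41

open Cfsg Cfsg.Agent.Lib.Helper15
open scoped ComplexConjugate
open scoped IsMulCommutative

theorem charDegrees_congr {S G : Type*} [Group S] [Group G] (e : S ≃* G) :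
    charDegrees S = charDegrees G := by
  ext d
  constructor
  · rintro ⟨χ, hχ⟩
    refine ⟨Cfsg.Agent.Lib.Helper80.irrCongr e.symm χ, ?_⟩
    rw [← hχ]
    unfold charDegree
    rw [Cfsg.Agent.Lib.Helper80.irrCongr_apply, map_one]
  · rintro ⟨χ, hχ⟩
    refine ⟨Cfsg.Agent.Lib.Helper80.irrCongr e χ, ?_⟩
    rw [← hχ]
    unfold charDegree
    rw [Cfsg.Agent.Lib.Helper80.irrCongr_apply, map_one]

theorem charDegree_eq_of_one {G : Type*} [Group G] {χ : G → ℂ} {d : ℕ} (h : χ 1 = (d : ℂ)) :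
    charDegree χ = d := by
  unfold charDegree
  rw [h]
  simp

theorem mem_charDegrees_of_irr {G : Type*} [Group G] {χ : G → ℂ} (hχ : IsIrrCharacter G χ)
    {d : ℕ} (h : χ 1 = (d : ℂ)) : d ∈ charDegrees G :=
  ⟨⟨χ, hχ⟩, charDegree_eq_of_one h⟩

theorem mem_charDegrees_quotient {G : Type*} [Group G] [Finite G] (N : Subgroup G) [N.Normal]
    {χ : G → ℂ} (hχ : IsIrrCharacter G χ) (hN : ∀ n ∈ N, χ n = χ 1)
    {d : ℕ} (h : χ 1 = (d : ℂ)) : d ∈ charDegrees (G ⧸ N) := by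
  obtain ⟨ψ, hψ, hψχ⟩ := Cfsg.Agent.Lib.Helper80.exists_deflate_irr N hχ hN
  refine mem_charDegrees_of_irr hψ ?_
  rw [← h, ← hψχ 1]
  rfl

theorem charDegrees_quotient_subset {G : Type*} [Group G] (N : Subgroup G) [N.Normal] :
    charDegrees (G ⧸ N) ⊆ charDegrees G := by
  rintro d ⟨ψ, hψ⟩
  refine ⟨⟨_, Cfsg.Agent.Lib.Helper80.isIrrCharacter_inflate N ψ.2⟩, ?_⟩
  rw [← hψ]
  rfl

variable {F : Type*} [Field F] [Fintype F] [DecidableEq F]

namespace NSGen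

variable (T : NSGen F)

theorem exists_theta_even (hodd : Fintype.card F % 2 = 1) (hq : 5 ≤ Fintype.card F) :
    ∃ θ : T.C →* ℂˣ, θ ≠ θ⁻¹ ∧ θ (T.negC hodd) = 1 := by
  obtain ⟨e⟩ := CommGroup.monoidHom_mulEquiv_of_hasEnoughRootsOfUnity T.C ℂ
  set φ : T.C →* ℂˣ := e.symm T.gen with hφ
  have hord : orderOf φ = Fintype.card F + 1 := by
    rw [hφ, MulEquiv.orderOf_eq, T.orderOf_gen]
  refine ⟨φ ^ 2, ?_, ?_⟩
  · intro h
    have h4 : φ ^ 4 = 1 := by
      have h5 : φ ^ 2 * φ ^ 2 = 1 := by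
        nth_rewrite 2 [h]
        exact mul_inv_cancel (φ ^ 2)
      rw [← h5, ← pow_add]
    have := orderOf_dvd_of_pow_eq_one h4
    rw [hord] at this
    have := Nat.le_of_dvd (by norm_num) this
    omega
  · rw [MonoidHom.pow_apply, ← map_pow, sq, T.negC_mul_self, map_one]

end NSGen

theorem exists_mulChar_even (hq : 7 ≤ Fintype.card F) :
    ∃ β : MulChar F ℂ, β ≠ β⁻¹ ∧ β (-1) = 1 := by
  obtain ⟨γ, hγ⟩ := MulChar.exists_mulChar_orderOf F (n := Fintype.card F - 1) dvd_rfl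
    (Complex.isPrimitiveRoot_exp (Fintype.card F - 1) (by omega))
  refine ⟨γ ^ 2, ?_, ?_⟩
  · intro h
    have h4 : γ ^ 4 = 1 := by
      have h5 : γ ^ 2 * γ ^ 2 = 1 := by
        nth_rewrite 2 [h]
        exact mul_inv_cancel (γ ^ 2)
      rw [← h5, ← pow_add]
    have := orderOf_dvd_of_pow_eq_one h4
    rw [hγ] at this
    have := Nat.le_of_dvd (by norm_num) this
    omega
  · rw [MulChar.pow_apply' _ (by norm_num), ← map_pow]
    simp

theorem charDegrees_SL2_odd (hodd : Fintype.card F % 2 = 1) (d : ℕ)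
    (hd : d ∈ charDegrees (Matrix.SpecialLinearGroup (Fin 2) F)) :
    d = 1 ∨ d = Fintype.card F ∨ d = Fintype.card F + 1 ∨ d + 1 = Fintype.card F ∨
      2 * d = Fintype.card F + 1 ∨ 2 * d + 1 = Fintype.card F := by
  obtain ⟨χ, hχ⟩ := hd
  obtain ⟨T⟩ := exists_NSGen (F := F)
  obtain ⟨d', hd', h⟩ := T.classification_deg hodd χ.2
  have : d = d' := by rw [← hχ]; exact charDegree_eq_of_one hd'
  subst this
  rcases h with h | h | h | h | h | h
  · exact Or.inl h.2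
  · exact Or.inr (Or.inl h.2)
  · exact Or.inr (Or.inr (Or.inl h.2))
  · exact Or.inr (Or.inr (Or.inr (Or.inr (Or.inl h.2))))
  · exact Or.inr (Or.inr (Or.inr (Or.inl h.2)))
  · exact Or.inr (Or.inr (Or.inr (Or.inr (Or.inr h.2))))

theorem charDegrees_PSL2_odd (hodd : Fintype.card F % 2 = 1) (d : ℕ)
    (hd : d ∈ charDegrees (Matrix.ProjectiveSpecialLinearGroup (Fin 2) F)) :
    d = 1 ∨ d = Fintype.card F ∨ d = Fintype.card F + 1 ∨ d + 1 = Fintype.card F ∨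
      2 * d = Fintype.card F + 1 ∨ 2 * d + 1 = Fintype.card F :=
  charDegrees_SL2_odd hodd d (charDegrees_quotient_subset _ hd)

/-- a function with `χ (-1 * g) = χ g` is trivial on the centre -/
theorem trivial_on_center {χ : Matrix.SpecialLinearGroup (Fin 2) F → ℂ}
    (h : χ (-1 * 1) = χ 1) :
    ∀ n ∈ Subgroup.center (Matrix.SpecialLinearGroup (Fin 2) F), χ n = χ 1 := by
  intro n hn
  rw [sl2_mem_center_iff, ← sl2_eq_one_iff, ← sl2_eq_neg_one_iff] at hn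
  rcases hn with rfl | rfl
  · rfl
  · rw [← h, mul_one]

theorem St_neg (g : Matrix.SpecialLinearGroup (Fin 2) F) : St (-1 * g) = St g := by
  rw [St_def, Pi.sub_apply, Pi.sub_apply, psR_neg, MulChar.one_apply (isUnit_one.neg), one_mul]
  rfl

theorem card_mem_charDegrees_SL2 :
    Fintype.card F ∈ charDegrees (Matrix.SpecialLinearGroup (Fin 2) F) :=
  mem_charDegrees_of_irr St_irr St_one

theorem card_mem_charDegrees_PSL2 :
    Fintype.card F ∈ charDegrees (Matrix.ProjectiveSpecialLinearGroup (Fin 2) F) :=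
  mem_charDegrees_quotient _ St_irr (trivial_on_center (St_neg 1)) St_one

theorem card_add_one_mem_charDegrees_PSL2 (hq : 7 ≤ Fintype.card F) :
    Fintype.card F + 1 ∈ charDegrees (Matrix.ProjectiveSpecialLinearGroup (Fin 2) F) := by
  obtain ⟨β, hβ, hβ1⟩ := exists_mulChar_even hq
  refine mem_charDegrees_quotient _ (psR_irr β hβ) (trivial_on_center ?_) ?_
  · rw [psR_neg, hβ1, one_mul]
  · rw [psR_one_apply_one]; push_cast; ring

theorem card_sub_one_mem_charDegrees_PSL2 (hodd : Fintype.card F % 2 = 1)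
    (hq : 5 ≤ Fintype.card F) :
    Fintype.card F - 1 ∈ charDegrees (Matrix.ProjectiveSpecialLinearGroup (Fin 2) F) := by
  obtain ⟨T⟩ := exists_NSGen (F := F)
  obtain ⟨θ, hθ, hθ1⟩ := T.exists_theta_even hodd hq
  refine mem_charDegrees_quotient _ (T.X_irr hodd θ hθ) (trivial_on_center ?_) ?_
  · rw [T.X_neg, hθ1]; simp
  · rw [T.X_one, Nat.cast_sub (by omega)]; simp


theorem sq_sub_one_eq (q : ℕ) (hq : 1 ≤ q) : q ^ 2 - 1 = (q - 1) * (q + 1) := by
  obtain ⟨m, rfl⟩ : ∃ m, q = m + 1 := ⟨q - 1, by omega⟩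
  have : (m + 1) ^ 2 = m * (m + 1 + 1) + 1 := by ring
  rw [this]
  simp

theorem degreeGraph_of_degrees {S : Type*} [Group S] (q t : ℕ) (ht : t.Prime)
    (hq : ∃ n : ℕ, q = t ^ n) (hq2 : 2 ≤ q)
    (hD : ∀ d ∈ charDegrees S, d ∣ q ∨ d ∣ q + 1 ∨ d ∣ q - 1)
    (h1 : q ∈ charDegrees S) (h2 : q + 1 ∈ charDegrees S) (h3 : q - 1 ∈ charDegrees S) :
    degreePrimes S = {r : ℕ | r.Prime ∧ r ∣ q * (q ^ 2 - 1)} ∧
    ∀ r s : ℕ, (degreeGraph S).Adj r s ↔ (r ≠ s ∧ r.Prime ∧ s.Prime ∧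
      ((r ∣ q + 1 ∧ s ∣ q + 1) ∨ (r ∣ q - 1 ∧ s ∣ q - 1))) := by
  constructor
  · ext r
    simp only [degreePrimes, Set.mem_ofPred_eq]
    rw [sq_sub_one_eq q (by omega)]
    constructor
    · rintro ⟨hr, d, hd, hrd⟩
      refine ⟨hr, ?_⟩
      rcases hD d hd with h | h | h
      · exact Dvd.dvd.mul_right (hrd.trans h) _
      · exact Dvd.dvd.mul_left (Dvd.dvd.mul_left (hrd.trans h) _) _
      · exact Dvd.dvd.mul_left (Dvd.dvd.mul_right (hrd.trans h) _) _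
    · rintro ⟨hr, hrd⟩
      refine ⟨hr, ?_⟩
      rcases (Nat.Prime.dvd_mul hr).1 hrd with h | h
      · exact ⟨q, h1, h⟩
      · rcases (Nat.Prime.dvd_mul hr).1 h with h | h
        · exact ⟨q - 1, h3, h⟩
        · exact ⟨q + 1, h2, h⟩
  · intro r s
    show (r ≠ s ∧ r.Prime ∧ s.Prime ∧ ∃ d ∈ charDegrees S, r * s ∣ d) ↔ _
    constructor
    · rintro ⟨hne, hr, hs, d, hd, hrs⟩
      refine ⟨hne, hr, hs, ?_⟩
      have hrd : r ∣ d := (Dvd.intro _ rfl).trans hrs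
      have hsd : s ∣ d := (Dvd.intro_left _ rfl).trans hrs
      rcases hD d hd with h | h | h
      · exfalso
        obtain ⟨n, rfl⟩ := hq
        have e1 := (Nat.prime_dvd_prime_iff_eq hr ht).1 (hr.dvd_of_dvd_pow (hrd.trans h))
        have e2 := (Nat.prime_dvd_prime_iff_eq hs ht).1 (hs.dvd_of_dvd_pow (hsd.trans h))
        exact hne (e1.trans e2.symm)
      · exact Or.inl ⟨hrd.trans h, hsd.trans h⟩
      · exact Or.inr ⟨hrd.trans h, hsd.trans h⟩
    · rintro ⟨hne, hr, hs, h⟩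
      refine ⟨hne, hr, hs, ?_⟩
      have hco : Nat.Coprime r s := (Nat.coprime_primes hr hs).2 hne
      rcases h with ⟨ha, hb⟩ | ⟨ha, hb⟩
      · exact ⟨q + 1, h2, hco.mul_dvd_of_dvd_of_dvd ha hb⟩
      · exact ⟨q - 1, h3, hco.mul_dvd_of_dvd_of_dvd ha hb⟩

end Cfsg.Agent.Lib.Helper41
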