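import Cfsg.Agent.Lib.Helper41.PrincipalSeries

/-!
# Parametrisation of the Borel subgroup of `SL₂(F)`, sums of multiplicative characters,
and the restriction of `R(β)` to the Borel subgroup.
-/

set_option autoImplicit false

namespace Cfsg.Agent.Lib.Helper41

open Cfsg Cfsg.Agent.Lib.Helper15

variable {F : Type*} [Field F]

/-- the upper triangular element with diagonal `r, r⁻¹` and upper right entry `s`. -/
def bor (r : Fˣ) (s : F) : Matrix.SpecialLinearGroup (Fin 2) F :=
  ⟨!![(r : F), s; 0, ((r⁻¹ : Fˣ) : F)], by simp [Matrix.det_fin_two]⟩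

theorem bor_coe (r : Fˣ) (s : F) : ((bor r s : Matrix.SpecialLinearGroup (Fin 2) F) :
    Matrix (Fin 2) (Fin 2) F) = !![(r : F), s; 0, ((r⁻¹ : Fˣ) : F)] := rfl

theorem bor_00 (r : Fˣ) (s : F) : (bor r s).1 0 0 = (r : F) := rfl
theorem bor_01 (r : Fˣ) (s : F) : (bor r s).1 0 1 = s := rfl
theorem bor_10 (r : Fˣ) (s : F) : (bor r s).1 1 0 = 0 := rfl
theorem bor_11 (r : Fˣ) (s : F) : (bor r s).1 1 1 = ((r⁻¹ : Fˣ) : F) := rfl

theorem bor_mem (r : Fˣ) (s : F) :
    bor r s ∈ (Cfsg.upperTriangularGL 2 F).comap Matrix.SpecialLinearGroup.toGL := by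
  rw [mem_borel_iff, bor_coe]
  simp

theorem bor_bijective : Function.Bijective (fun p : Fˣ × F =>
    (⟨bor p.1 p.2, bor_mem p.1 p.2⟩ :
      ((Cfsg.upperTriangularGL 2 F).comap Matrix.SpecialLinearGroup.toGL))) := by
  constructor
  · rintro ⟨r, s⟩ ⟨r', s'⟩ h
    have h1 : (bor r s).1 = (bor r' s').1 := congrArg (fun x => x.1.1) h
    rw [bor_coe, bor_coe] at h1
    have h00 := congrFun (congrFun h1 0) 0
    have h01 := congrFun (congrFun h1 0) 1
    simp at h00 h01
    rw [Units.ext h00, h01]
  · intro b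
    have hb := (mem_borel_iff _).1 b.2
    have hdet := borel_00_mul_11 _ hb
    refine ⟨(Units.mkOfMulEqOne _ _ hdet, b.1.1 0 1), ?_⟩
    apply Subtype.ext
    apply Subtype.ext
    change (bor _ _).1 = b.1.1
    rw [bor_coe]
    ext i j
    fin_cases i <;> fin_cases j
    · simp
    · simp
    · simp [hb]
    · simp only [Fin.mk_one, Fin.isValue, Matrix.of_apply, Matrix.cons_val', Matrix.cons_val_one,
        Matrix.cons_val_fin_one]
      rfl

section fin
variable [Fintype F] [DecidableEq F]

theorem sum_units_mulChar (χ : MulChar F ℂ) : ∑ r : Fˣ, χ (r : F) = ∑ a : F, χ a := by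
  rw [← Finset.sum_subset (Finset.subset_univ
    (Finset.univ.map ⟨(Units.val : Fˣ → F), Units.val_injective⟩))]
  · rw [Finset.sum_map]
    rfl
  · intro a _ ha
    apply MulChar.map_nonunit
    rintro ⟨u, rfl⟩
    apply ha
    simp

theorem sum_units_mulChar_eq (χ : MulChar F ℂ) [Decidable (χ = 1)] :
    ∑ r : Fˣ, χ (r : F) = if χ = 1 then ((Fintype.card F : ℂ) - 1) else 0 := by
  rw [sum_units_mulChar]
  split_ifs with h
  · rw [h, MulChar.sum_one_eq_card_units, Fintype.card_units, Nat.cast_sub Fintype.card_pos]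
    simp
  · exact MulChar.sum_eq_zero_of_ne_one h

theorem card_borel : (Nat.card ((Cfsg.upperTriangularGL 2 F).comap
    (Matrix.SpecialLinearGroup.toGL : Matrix.SpecialLinearGroup (Fin 2) F →* _)) : ℂ)
    = ((Fintype.card F : ℂ) - 1) * Fintype.card F := by
  rw [← Nat.card_congr (Equiv.ofBijective _ (bor_bijective (F := F))), Nat.card_prod,
    Nat.card_eq_fintype_card, Nat.card_eq_fintype_card, Fintype.card_units, Nat.cast_mul,
    Nat.cast_sub Fintype.card_pos]
  simp

/-- Sum of the values of `R(β)` over the elements of the Borel subgroup with given diagonal. -/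
theorem sum_principalSeries_bor (β : MulChar F ℂ) (r : Fˣ) :
    ∑ s : F, Cfsg.indFun ((Cfsg.upperTriangularGL 2 F).comap Matrix.SpecialLinearGroup.toGL)
      (fun b => β (((b : Matrix.SpecialLinearGroup (Fin 2) F) : Matrix (Fin 2) (Fin 2) F) 0 0))
        (bor r s)
    = (Fintype.card F : ℂ) * (β (r : F) + β ((r⁻¹ : Fˣ) : F)) := by
  simp_rw [principalSeries_formula]
  rw [Finset.sum_add_distrib, Finset.sum_comm]
  have h1 : ∀ c : F, (∑ s : F, if (bor r s).1 1 0 + ((bor r s).1 1 1 - (bor r s).1 0 0) * c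
        - (bor r s).1 0 1 * c ^ 2 = 0 then β ((bor r s).1 0 0 + (bor r s).1 0 1 * c) else 0)
      = β ((r⁻¹ : Fˣ) : F) + (if c = 0 then (Fintype.card F : ℂ) * β (r : F)
          - β ((r⁻¹ : Fˣ) : F) else 0) := by
    intro c
    simp only [bor_00, bor_01, bor_10, bor_11]
    by_cases hc : c = 0
    · subst hc
      simp [Finset.card_univ]
    · rw [if_neg hc, add_zero]
      rw [Finset.sum_eq_single ((((r⁻¹ : Fˣ) : F) - (r : F)) / c)]
      · simp
        rw [if_pos]
        · congr 1
          field_simp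
          ring
        · field_simp
          ring
      · intro s _ hs
        refine if_neg ?_
        intro h
        apply hs
        rw [eq_div_iff hc]
        have h2 : c * ((((r⁻¹ : Fˣ) : F) - (r : F)) - s * c) = 0 := by linear_combination h
        rcases mul_eq_zero.1 h2 with h3 | h3
        · exact absurd h3 hc
        · linear_combination -h3
      · intro h
        exact absurd (Finset.mem_univ _) h
  simp_rw [h1]
  rw [Finset.sum_add_distrib, Finset.sum_ite_eq' Finset.univ (0 : F)]
  simp only [bor_00, bor_01, bor_10, bor_11]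
  simp [Finset.card_univ]
  ring

end fin

end Cfsg.Agent.Lib.Helper41
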