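import Cfsg.Agent.Lib.Helper15.Clifford2
import Cfsg.Agent.Lib.Helper26.Virtual
import Cfsg.Agent.Lib.Helper76.CharIrr

/-!
# Auxiliary lemmas on characters: constituents of characters of norm two, parity
-/

set_option autoImplicit false

namespace Cfsg.Agent.Lib.Helper41

open Cfsg Cfsg.Agent.Lib.Helper15
open scoped ComplexConjugate

variable {G : Type*} [Group G] [Fintype G]

/-- orthogonal characters have no common constituent -/
theorem inner_zero_of_constituent {a b ξ : G → ℂ} (ha : IsCharacter G a) (hb : IsCharacter G b)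
    (hab : classInner a b = 0) (hξ : IsIrrCharacter G ξ) (h : classInner b ξ ≠ 0) :
    classInner a ξ = 0 := by
  have hc := char_sub_irr hb hξ h
  obtain ⟨n1, h1⟩ := inner_nat ha (irr_char hξ)
  obtain ⟨n2, h2⟩ := inner_nat ha hc
  have : classInner a b = classInner a ξ + classInner a (b - ξ) := by
    rw [classInner_sub_right]; ring
  rw [hab, h1, h2] at this
  have h3 : n1 + n2 = 0 := by exact_mod_cast this.symm
  rw [h1]
  have : n1 = 0 := by omega
  rw [this]; simp

/-- constituents of a character of norm two -/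
theorem norm_two_constituent {b ξ : G → ℂ} (hb : IsCharacter G b) (hbb : classInner b b = 2)
    (hξ : IsIrrCharacter G ξ) (h : classInner b ξ ≠ 0) :
    classInner b ξ = 1 ∧ IsIrrCharacter G (b - ξ) ∧ classInner (b - ξ) ξ = 0 := by
  have hc := char_sub_irr hb hξ h
  obtain ⟨m, hm⟩ := inner_nat hb (irr_char hξ)
  obtain ⟨k, hk⟩ := inner_nat hc hc
  have hcomm : classInner ξ b = classInner b ξ := inner_comm_of_char (irr_char hξ) hb
  have h1 : classInner (b - ξ) (b - ξ) = 3 - 2 * (m : ℂ) := by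
    rw [classInner_sub_left, classInner_sub_right, classInner_sub_right, hbb, hcomm, hm,
      irr_inner_self hξ]
    ring
  rw [hk] at h1
  have hm0 : m ≠ 0 := by
    rintro rfl
    apply h
    rw [hm]; simp
  have h2 : k + 2 * m = 3 := by
    have : ((k + 2 * m : ℕ) : ℂ) = ((3 : ℕ) : ℂ) := by
      push_cast
      rw [h1]; ring
    exact_mod_cast this
  have hm1 : m = 1 := by omega
  have hk1 : k = 1 := by omega
  refine ⟨by rw [hm, hm1]; simp, isIrr_iff.2 ⟨hc, by rw [hk, hk1]; simp⟩, ?_⟩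
  rw [classInner_sub_left, hm, hm1, irr_inner_self hξ]
  simp

/-- multiplicities in a virtual character of norm two -/
theorem gen_norm_two_mult {X η : G → ℂ} (hX : IsGeneralizedCharacter G X)
    (hXX : classInner X X = 2) (hη : IsIrrCharacter G η) (h : classInner X η ≠ 0) :
    classInner X η = 1 ∨ classInner X η = -1 := by
  obtain ⟨m, hm⟩ := Cfsg.Agent.Lib.Helper26.gen_inner_int hX (Cfsg.Agent.Lib.Helper26.gen_of_irr hη)
  have hgen : IsGeneralizedCharacter G (X - m • η) :=
    Cfsg.Agent.Lib.Helper26.gen_sub hX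
      (Cfsg.Agent.Lib.Helper26.gen_zsmul (Cfsg.Agent.Lib.Helper26.gen_of_irr hη) m)
  obtain ⟨k, hk⟩ := Cfsg.Agent.Lib.Helper26.gen_norm_nat hgen
  have hcomm : classInner η X = classInner X η :=
    Cfsg.Agent.Lib.Helper26.gen_inner_comm (Cfsg.Agent.Lib.Helper26.gen_of_irr hη) hX
  have h1 : classInner (X - m • η) (X - m • η) = 2 - (m : ℂ) ^ 2 := by
    rw [classInner_sub_left, classInner_sub_right, classInner_sub_right,
      Cfsg.Agent.Lib.Helper26.classInner_zsmul_left, Cfsg.Agent.Lib.Helper26.classInner_zsmul_left,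
      Cfsg.Agent.Lib.Helper26.classInner_zsmul_right, Cfsg.Agent.Lib.Helper26.classInner_zsmul_right,
      hXX, hcomm, hm, irr_inner_self hη]
    ring
  rw [hk] at h1
  have h2 : (k : ℤ) + m ^ 2 = 2 := by
    have : (((k : ℤ) + m ^ 2 : ℤ) : ℂ) = ((2 : ℤ) : ℂ) := by
      push_cast
      rw [h1]; ring
    exact_mod_cast this
  have hm0 : m ≠ 0 := by
    rintro rfl
    apply h
    rw [hm]; simp
  have hle : m ^ 2 ≤ 2 := by have : (0 : ℤ) ≤ k := Int.natCast_nonneg k; omega
  have hm1 : m = 1 ∨ m = -1 := by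
    have h3 : m ≤ 1 := by nlinarith
    have h4 : -1 ≤ m := by nlinarith
    omega
  rcases hm1 with h | h
  · left; rw [hm, h]; simp
  · right; rw [hm, h]; simp

/-- functions of opposite parity with respect to a central involution are orthogonal -/
theorem classInner_eq_zero_of_parity (z : G) {f h : G → ℂ} {e e' : ℂ}
    (hf : ∀ g, f (z * g) = e * f g) (hh : ∀ g, h (z * g) = e' * h g)
    (hee : e * conj e' = -1) : classInner f h = 0 := by
  unfold classInner
  have h1 : ∑ g : G, f g * conj (h g) = ∑ g : G, f (z * g) * conj (h (z * g)) :=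
    (Fintype.sum_equiv (Equiv.mulLeft z) _ _ (fun g => rfl)).symm
  have h2 : ∑ g : G, f (z * g) * conj (h (z * g)) = - ∑ g : G, f g * conj (h g) := by
    rw [← Finset.sum_neg_distrib]
    apply Finset.sum_congr rfl
    intro g _
    rw [hf, hh, map_mul]
    linear_combination (f g * conj (h g)) * hee
  rw [h2] at h1
  have h3 : ∑ g : G, f g * conj (h g) = 0 := by
    have : (2 : ℂ) * ∑ g : G, f g * conj (h g) = 0 := by linear_combination h1
    exact (mul_eq_zero.1 this).resolve_left two_ne_zero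
  rw [h3, mul_zero]

omit [Fintype G] in
/-- an irreducible character has a sign with respect to a central involution -/
theorem irr_sign {χ : G → ℂ} (hχ : IsIrrCharacter G χ) (z : G) (hz : z ∈ Subgroup.center G)
    (hzz : z * z = 1) : ∃ e : ℂ, (e = 1 ∨ e = -1) ∧ ∀ g, χ (z * g) = e * χ g := by
  obtain ⟨ω, hω⟩ := Cfsg.Agent.Lib.Helper76.irr_central_char hχ
  refine ⟨(ω ⟨z, hz⟩ : ℂ), ?_, fun g => hω ⟨z, hz⟩ g⟩
  have h1 : ((ω ⟨z, hz⟩ : ℂˣ) : ℂ) ^ 2 = 1 := by
    rw [← Units.val_pow_eq_pow_val, ← map_pow, sq]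
    have : (⟨z, hz⟩ : Subgroup.center G) * ⟨z, hz⟩ = 1 := Subtype.ext hzz
    rw [this, map_one, Units.val_one]
  have : (((ω ⟨z, hz⟩ : ℂˣ) : ℂ) - 1) * (((ω ⟨z, hz⟩ : ℂˣ) : ℂ) + 1) = 0 := by
    linear_combination h1
  rcases mul_eq_zero.1 this with h | h
  · left; exact sub_eq_zero.1 h
  · right; exact eq_neg_of_add_eq_zero_left h

end Cfsg.Agent.Lib.Helper41
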