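import Cfsg.Agent.Lib.Helper41.NSInd
import Cfsg.Agent.Lib.Helper15.Iso
import Cfsg.Agent.Lib.Helper26.Virtual

/-!
# The discrete series of `SL₂(F)`, `q` odd: inner products
-/

set_option autoImplicit false
set_option linter.unusedSectionVars false

namespace Cfsg.Agent.Lib.Helper41

open Cfsg Cfsg.Agent.Lib.Helper15
open scoped ComplexConjugate

variable {F : Type*} [Field F] [Fintype F] [DecidableEq F]

/-- `(R(1) - 2) R(α)` -/
noncomputable def psY (α : MulChar F ℂ) : Matrix.SpecialLinearGroup (Fin 2) F → ℂ :=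
  fun g => psR α g * (psR 1 g - 2)

theorem psY_apply (α : MulChar F ℂ) (g : Matrix.SpecialLinearGroup (Fin 2) F) :
    psY α g = psR α g * (psR 1 g - 2) := rfl

theorem psR_one_sub_two_cf : IsClassFunction (Matrix.SpecialLinearGroup (Fin 2) F)
    (fun g => psR (1 : MulChar F ℂ) g - 2) := by
  intro g h
  simp only [psR_cf (1 : MulChar F ℂ) g h]

theorem psY_cf (α : MulChar F ℂ) : IsClassFunction (Matrix.SpecialLinearGroup (Fin 2) F) (psY α) := by
  intro g h
  simp only [psY_apply, psR_cf _ g h]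

theorem psY_eq_indFun (α : MulChar F ℂ) : psY α =
    indFun ((Cfsg.upperTriangularGL 2 F).comap Matrix.SpecialLinearGroup.toGL)
      ((fun b : ((Cfsg.upperTriangularGL 2 F).comap
      (Matrix.SpecialLinearGroup.toGL : Matrix.SpecialLinearGroup (Fin 2) F →* _)) =>
        α (((b : Matrix.SpecialLinearGroup (Fin 2) F) : Matrix (Fin 2) (Fin 2) F) 0 0)) *
        fun b : ((Cfsg.upperTriangularGL 2 F).comap
      (Matrix.SpecialLinearGroup.toGL : Matrix.SpecialLinearGroup (Fin 2) F →* _)) =>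
        (psR (1 : MulChar F ℂ) (b : Matrix.SpecialLinearGroup (Fin 2) F) - 2)) := by
  rw [indFun_mul_restrict _ _ psR_one_sub_two_cf]
  rfl

theorem psY_isGen (α : MulChar F ℂ) :
    IsGeneralizedCharacter (Matrix.SpecialLinearGroup (Fin 2) F) (psY α) := by
  have h1 : psY α = psR α * psR 1 - (psR α + psR α) := by
    funext g
    simp only [psY_apply, Pi.sub_apply, Pi.mul_apply, Pi.add_apply]
    ring
  rw [h1]
  exact ⟨_, _, Cfsg.Agent.Lib.Helper3.IsCharacter.mul (psR_isCharacter α) (psR_isCharacter 1),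
    Cfsg.Agent.Lib.Helper3.IsCharacter.add (psR_isCharacter α) (psR_isCharacter α), rfl⟩

theorem psR_one_bor (r : Fˣ) (s : F) :
    psR (1 : MulChar F ℂ) (bor r s) - 2 = if r ^ 2 = 1 then (if s = 0 then ((Fintype.card F : ℂ) - 1)
      else -1) else 0 := by
  rw [psR_bor]
  simp only [MulChar.one_apply_coe]
  split_ifs <;> ring

theorem psY_bor (α : MulChar F ℂ) (r : Fˣ) (s : F) :
    psY α (bor r s) = if r ^ 2 = 1 then (if s = 0 then
      ((Fintype.card F : ℂ) + 1) * ((Fintype.card F : ℂ) - 1) * α (r : F)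
      else - α (r : F)) else 0 := by
  rw [psY_apply, psR_one_bor, psR_bor]
  split_ifs <;> ring

theorem sum_units_sq_eq_one (h2 : (2 : F) ≠ 0) (h : Fˣ → ℂ) :
    (∑ r : Fˣ, if r ^ 2 = 1 then h r else 0) = h 1 + h (-1) := by
  have hne : (1 : Fˣ) ≠ -1 := by
    intro h1
    have := congrArg Units.val h1
    simp at this
    apply h2
    linear_combination this
  rw [← Finset.add_sum_erase _ _ (Finset.mem_univ (1 : Fˣ)), if_pos (one_pow 2)]
  congr 1
  rw [Finset.sum_eq_single (-1 : Fˣ)]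
  · rw [if_pos]; simp
  · intro b hb hb2
    rw [if_neg]
    intro h3
    have h4 : ((b : F) - 1) * ((b : F) + 1) = 0 := by
      have := congrArg Units.val h3
      rw [Units.val_pow_eq_pow_val, Units.val_one] at this
      linear_combination this
    rcases mul_eq_zero.1 h4 with h5 | h5
    · apply (Finset.mem_erase.1 hb).1
      apply Units.ext
      simpa using sub_eq_zero.1 h5
    · apply hb2
      apply Units.ext
      simpa using eq_neg_of_add_eq_zero_left h5
  · intro h3
    exfalso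
    apply h3
    rw [Finset.mem_erase]
    exact ⟨hne.symm, Finset.mem_univ _⟩

/-- inner product of `Y(α)` with a class function which is constant on the non-central elements
`± u`. -/
theorem classInner_psY (h2 : (2 : F) ≠ 0) (α : MulChar F ℂ)
    (f : Matrix.SpecialLinearGroup (Fin 2) F → ℂ)
    (hf : IsClassFunction (Matrix.SpecialLinearGroup (Fin 2) F) f) (a b : Fˣ → ℂ)
    (ha : ∀ r : Fˣ, r ^ 2 = 1 → f (bor r 0) = a r)
    (hb : ∀ (r : Fˣ) (s : F), r ^ 2 = 1 → s ≠ 0 → f (bor r s) = b r) :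
    classInner (psY α) f = (Fintype.card F : ℂ)⁻¹ *
      (conj (a 1 - b 1) + α (-1) * conj (a (-1) - b (-1))) := by
  rw [psY_eq_indFun, classInner_indFun_borel _ _ hf]
  have h1 : ∀ r : Fˣ, (∑ s : F, ((fun b : ((Cfsg.upperTriangularGL 2 F).comap
      (Matrix.SpecialLinearGroup.toGL : Matrix.SpecialLinearGroup (Fin 2) F →* _)) =>
        α (((b : Matrix.SpecialLinearGroup (Fin 2) F) : Matrix (Fin 2) (Fin 2) F) 0 0)) *
        fun b : ((Cfsg.upperTriangularGL 2 F).comap
      (Matrix.SpecialLinearGroup.toGL : Matrix.SpecialLinearGroup (Fin 2) F →* _)) =>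
        (psR (1 : MulChar F ℂ) (b : Matrix.SpecialLinearGroup (Fin 2) F) - 2))
          ⟨bor r s, bor_mem r s⟩ * conj (f (bor r s)))
      = if r ^ 2 = 1 then ((Fintype.card F : ℂ) - 1) * (α (r : F) * conj (a r - b r)) else 0 := by
    intro r
    simp only [Pi.mul_apply, psR_one_bor, bor_00]
    by_cases hr : r ^ 2 = 1
    · simp only [if_pos hr]
      rw [← Finset.add_sum_erase _ _ (Finset.mem_univ (0 : F)), if_pos rfl, ha r hr]
      have : ∀ s ∈ Finset.univ.erase (0 : F), α (r : F) * (if s = 0 then ((Fintype.card F : ℂ) - 1)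
          else -1) * conj (f (bor r s)) = - (α (r : F) * conj (b r)) := by
        intro s hs
        have hs0 := (Finset.mem_erase.1 hs).1
        rw [if_neg hs0, hb r s hr hs0]
        ring
      rw [Finset.sum_congr rfl this, Finset.sum_const, Finset.card_erase_of_mem (Finset.mem_univ _),
        Finset.card_univ, nsmul_eq_mul, Nat.cast_sub Fintype.card_pos, map_sub]
      push_cast
      ring
    · simp only [if_neg hr]
      simp
  simp_rw [h1]
  rw [sum_units_sq_eq_one h2]
  have hq : (Fintype.card F : ℂ) ≠ 0 := by exact_mod_cast Fintype.card_ne_zero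
  have hq1 : (Fintype.card F : ℂ) - 1 ≠ 0 := by
    rw [sub_ne_zero]
    exact_mod_cast (Fintype.one_lt_card (α := F)).ne'
  simp only [Units.val_one, map_one, Units.val_neg]
  field_simp

theorem mulChar_neg_one_sq (α : MulChar F ℂ) : α (-1) ^ 2 = 1 := by
  rw [← map_pow]; simp

theorem mulChar_neg_one (α : MulChar F ℂ) : α (-1) = 1 ∨ α (-1) = -1 :=
  sq_eq_one_iff_of_side_aux (mulChar_neg_one_sq α)

theorem conj_mulChar_neg_one (α : MulChar F ℂ) : conj (α (-1)) = α (-1) := by
  rcases mulChar_neg_one α with h | h <;> rw [h] <;> simp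

theorem bor_one_zero : bor (1 : Fˣ) (0 : F) = 1 := by
  apply Subtype.ext
  rw [bor_coe]
  ext i j
  fin_cases i <;> fin_cases j <;> simp

theorem bor_neg_one_zero : bor (-1 : Fˣ) (0 : F) = -1 := by
  apply Subtype.ext
  rw [bor_coe, Matrix.SpecialLinearGroup.coe_neg]
  ext i j
  fin_cases i <;> fin_cases j <;> simp

theorem bor_not_central (r : Fˣ) (s : F) (hs : s ≠ 0) :
    bor r s ∉ Subgroup.center (Matrix.SpecialLinearGroup (Fin 2) F) := by
  rw [sl2_mem_center_iff]
  rintro (h | h)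
  · have := congrFun (congrFun h 0) 1
    rw [bor_01] at this
    simp at this
    exact hs this
  · have := congrFun (congrFun h 0) 1
    rw [bor_01] at this
    simp at this
    exact hs this

theorem cardF_ne_zero : (Fintype.card F : ℂ) ≠ 0 := by exact_mod_cast Fintype.card_ne_zero

theorem classInner_psY_psY (h2 : (2 : F) ≠ 0) (α β : MulChar F ℂ) :
    classInner (psY α) (psY β) = (Fintype.card F : ℂ) * (1 + α (-1) * β (-1)) := by
  rw [classInner_psY h2 α (psY β) (psY_cf β)
    (fun r => ((Fintype.card F : ℂ) + 1) * ((Fintype.card F : ℂ) - 1) * β (r : F))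
    (fun r => - β (r : F))
    (fun r hr => by rw [psY_bor, if_pos hr, if_pos rfl])
    (fun r s hr hs => by rw [psY_bor, if_pos hr, if_neg hs])]
  simp only [Units.val_one, map_one, Units.val_neg, map_sub, map_mul, map_add, map_neg,
    Complex.conj_natCast, conj_mulChar_neg_one]
  have hq := cardF_ne_zero (F := F)
  field_simp
  ring

theorem classInner_psY_psR (h2 : (2 : F) ≠ 0) (α β : MulChar F ℂ) :
    classInner (psY α) (psR β) = 1 + α (-1) * β (-1) := by
  rw [classInner_psY h2 α (psR β) (psR_cf β)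
    (fun r => ((Fintype.card F : ℂ) + 1) * β (r : F))
    (fun r => β (r : F))
    (fun r hr => by rw [psR_bor, if_pos hr, if_pos rfl])
    (fun r s hr hs => by rw [psR_bor, if_pos hr, if_neg hs])]
  simp only [Units.val_one, map_one, Units.val_neg, map_sub, map_mul, map_add,
    Complex.conj_natCast, conj_mulChar_neg_one]
  have hq := cardF_ne_zero (F := F)
  field_simp
  ring

theorem classInner_psY_one (h2 : (2 : F) ≠ 0) (α : MulChar F ℂ) :
    classInner (psY α) (fun _ => (1 : ℂ)) = 0 := by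
  rw [classInner_psY h2 α (fun _ => (1 : ℂ)) (fun _ _ => rfl) (fun _ => 1) (fun _ => 1)
    (fun _ _ => rfl) (fun _ _ _ _ => rfl)]
  simp

namespace NSGen

variable (T : NSGen F)

theorem conj_theta (θ : T.C →* ℂˣ) (c : T.C) : conj ((θ c : ℂˣ) : ℂ) = ((θ c⁻¹ : ℂˣ) : ℂ) := by
  have h1 : ((θ c : ℂˣ) : ℂ) ^ (Nat.card T.C) = 1 := by
    rw [← Units.val_pow_eq_pow_val, ← map_pow, pow_card_eq_one', map_one, Units.val_one]
  have h2 : ‖((θ c : ℂˣ) : ℂ)‖ = 1 :=
    Complex.norm_eq_one_of_pow_eq_one h1 (by rw [T.card_C]; omega)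
  rw [map_inv, Units.val_inv_eq_inv_val, Complex.inv_eq_conj h2]

theorem conj_theta' (θ : T.C →* ℂˣ) (c : T.C) :
    conj (((θ c)⁻¹ : ℂˣ) : ℂ) = ((θ c : ℂˣ) : ℂ) := by
  have := T.conj_theta θ c⁻¹
  rwa [inv_inv, map_inv] at this

theorem sum_theta [Fintype T.C] (θ : T.C →* ℂˣ) [Decidable (θ = 1)] :
    ∑ c : T.C, ((θ c : ℂˣ) : ℂ) = if θ = 1 then ((Fintype.card F : ℂ) + 1) else 0 := by
  classical
  have h := sum_hom_units ((Units.coeHom ℂ).comp θ)
  have h1 : ((Units.coeHom ℂ).comp θ = 1) ↔ θ = 1 := by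
    constructor
    · intro h
      ext c
      have := DFunLike.congr_fun h c
      simpa using this
    · rintro rfl
      ext c
      simp
  simp only [MonoidHom.comp_apply, Units.coeHom_apply, h1] at h
  rw [h, ← Nat.card_eq_fintype_card, T.card_C]
  push_cast
  split_ifs <;> rfl

theorem classInner_nsI [Fintype T.C] (θ : T.C →* ℂˣ) (f : Matrix.SpecialLinearGroup (Fin 2) F → ℂ)
    (hf : IsClassFunction (Matrix.SpecialLinearGroup (Fin 2) F) f) :
    classInner (T.nsI θ) f = ((Fintype.card F : ℂ) + 1)⁻¹ *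
      ∑ c : T.C, ((θ c : ℂˣ) : ℂ) * conj (f c) := by
  rw [nsI_def, classInner_indFun_left _ _ _ hf]
  unfold classInner
  rw [T.card_C]
  push_cast
  rfl

section odd
variable (hodd : Fintype.card F % 2 = 1)
include hodd

theorem sum_central [Fintype T.C] (h : T.C → ℂ) :
    (∑ c : T.C, if (c : Matrix.SpecialLinearGroup (Fin 2) F) ∈ Subgroup.center _ then h c else 0)
      = h 1 + h (T.negC hodd) := by
  classical
  rw [← Finset.add_sum_erase _ _ (Finset.mem_univ (1 : T.C)),
    if_pos (by rw [Subgroup.coe_one]; exact Subgroup.one_mem _)]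
  congr 1
  rw [Finset.sum_eq_single (T.negC hodd)]
  · rw [if_pos]
    rw [T.mem_center_iff hodd]
    right; rfl
  · intro b hb hb2
    rw [if_neg]
    rw [T.mem_center_iff hodd]
    rintro (h | h)
    · exact (Finset.mem_erase.1 hb).1 h
    · exact hb2 h
  · intro h3
    exfalso
    apply h3
    rw [Finset.mem_erase]
    exact ⟨T.negC_ne_one hodd, Finset.mem_univ _⟩

theorem conj_theta_neg (θ : T.C →* ℂˣ) :
    conj ((θ (T.negC hodd) : ℂˣ) : ℂ) = ((θ (T.negC hodd) : ℂˣ) : ℂ) := by
  rcases T.theta_neg hodd θ with h | h <;> rw [h] <;> simp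

theorem nsI_neg_one (θ : T.C →* ℂˣ) : T.nsI θ (-1) =
    (Fintype.card F : ℂ) * ((Fintype.card F : ℂ) - 1) * ((θ (T.negC hodd) : ℂˣ) : ℂ) := by
  have := T.nsI_central θ (T.negC hodd) ((T.mem_center_iff hodd _).2 (Or.inr rfl))
  rw [negC_coe] at this
  exact this

theorem classInner_psY_nsI (α : MulChar F ℂ) (θ : T.C →* ℂˣ) :
    classInner (psY α) (T.nsI θ) = ((Fintype.card F : ℂ) - 1) *
      (1 + α (-1) * ((θ (T.negC hodd) : ℂˣ) : ℂ)) := by
  have h2 : (2 : F) ≠ 0 := two_ne_zero_of_odd_card hodd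
  rw [classInner_psY h2 α (T.nsI θ) (T.nsI_cf θ) (fun r => T.nsI θ (bor r 0)) (fun _ => 0)
    (fun _ _ => rfl)
    (fun r s _ hs => T.nsI_eigenvector hodd θ _ (bor_not_central r s hs) r ![1, 0]
      (by intro h; have := congrFun h 0; simp at this) (bor_eigenvector r s))]
  simp only [bor_one_zero, bor_neg_one_zero, nsI_one, T.nsI_neg_one hodd, sub_zero, map_mul,
    map_sub, map_one, Complex.conj_natCast, T.conj_theta_neg hodd]
  have hq := cardF_ne_zero (F := F)
  field_simp

theorem nsI_on_C (θ : T.C →* ℂˣ) (c : T.C) :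
    T.nsI θ (c : Matrix.SpecialLinearGroup (Fin 2) F) = ((θ c : ℂˣ) : ℂ) + ((θ c⁻¹ : ℂˣ) : ℂ) +
      (if (c : Matrix.SpecialLinearGroup (Fin 2) F) ∈ Subgroup.center _ then
        ((Fintype.card F : ℂ) - 2) * ((Fintype.card F : ℂ) + 1) * ((θ c : ℂˣ) : ℂ) else 0) := by
  split_ifs with hc
  · rw [T.nsI_central θ c hc]
    have : c⁻¹ = c := by
      rcases (T.mem_center_iff hodd c).1 hc with h | h
      · rw [h, inv_one]
      · rw [h, inv_eq_iff_mul_eq_one, negC_mul_self]
    rw [this]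
    ring
  · rw [T.nsI_noncentral hodd θ c hc, add_zero]

theorem classInner_nsI_nsI (θ θ' : T.C →* ℂˣ) [Decidable (θ = θ')] [Decidable (θ = θ'⁻¹)] :
    classInner (T.nsI θ) (T.nsI θ') = ((Fintype.card F : ℂ) - 2) *
      (1 + ((θ (T.negC hodd) : ℂˣ) : ℂ) * ((θ' (T.negC hodd) : ℂˣ) : ℂ))
      + (if θ = θ' then 1 else 0) + (if θ = θ'⁻¹ then 1 else 0) := by
  classical
  have : Fintype T.C := Fintype.ofFinite _
  rw [T.classInner_nsI θ _ (T.nsI_cf θ')]
  have h1 : ∀ c : T.C, ((θ c : ℂˣ) : ℂ) * conj (T.nsI θ' (c : Matrix.SpecialLinearGroup (Fin 2) F))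
      = (((θ * θ'⁻¹) c : ℂˣ) : ℂ) + (((θ * θ') c : ℂˣ) : ℂ) +
        (if (c : Matrix.SpecialLinearGroup (Fin 2) F) ∈ Subgroup.center _ then
        ((Fintype.card F : ℂ) - 2) * ((Fintype.card F : ℂ) + 1) *
          (((θ c : ℂˣ) : ℂ) * conj ((θ' c : ℂˣ) : ℂ)) else 0) := by
    intro c
    rw [T.nsI_on_C hodd θ' c]
    simp only [MonoidHom.mul_apply, MonoidHom.inv_apply, Units.val_mul]
    split_ifs
    · simp only [map_mul, map_sub, map_add, Complex.conj_natCast, map_one, map_ofNat,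
        T.conj_theta, T.conj_theta', map_inv]
      ring
    · simp only [map_zero, map_add, T.conj_theta, T.conj_theta', map_inv]
      ring
  simp_rw [h1]
  rw [Finset.sum_add_distrib, Finset.sum_add_distrib, T.sum_theta, T.sum_theta,
    T.sum_central hodd]
  have e1 : (θ * θ'⁻¹ = 1) ↔ θ = θ' := mul_inv_eq_one (a := θ) (b := θ')
  have e2 : (θ * θ' = 1) ↔ θ = θ'⁻¹ := mul_eq_one_iff_eq_inv (a := θ) (b := θ')
  simp only [map_one, Units.val_one, T.conj_theta_neg hodd, e1, e2]
  have hq1 : (Fintype.card F : ℂ) + 1 ≠ 0 := by exact_mod_cast Nat.succ_ne_zero (Fintype.card F)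
  split_ifs <;> field_simp <;> ring

theorem psR_on_C (β : MulChar F ℂ) (c : T.C) :
    psR β (c : Matrix.SpecialLinearGroup (Fin 2) F) =
      (if (c : Matrix.SpecialLinearGroup (Fin 2) F) ∈ Subgroup.center _ then
        ((Fintype.card F : ℂ) + 1) * (if c = 1 then 1 else β (-1)) else 0) := by
  split_ifs with hc h1
  · rw [h1, Subgroup.coe_one, ← bor_one_zero, psR_bor]
    simp
  · have := ((T.mem_center_iff hodd c).1 hc).resolve_left h1
    rw [this, negC_coe, ← bor_neg_one_zero, psR_bor]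
    simp
  · exact psR_no_eigenvector β _ (fun a v hv => T.no_eigenvector hodd c.2 hc a v hv)

theorem classInner_nsI_psR (θ : T.C →* ℂˣ) (β : MulChar F ℂ) :
    classInner (T.nsI θ) (psR β) = 1 + ((θ (T.negC hodd) : ℂˣ) : ℂ) * β (-1) := by
  classical
  have : Fintype T.C := Fintype.ofFinite _
  rw [T.classInner_nsI θ _ (psR_cf β)]
  have h1 : ∀ c : T.C, ((θ c : ℂˣ) : ℂ) * conj (psR β (c : Matrix.SpecialLinearGroup (Fin 2) F))
      = (if (c : Matrix.SpecialLinearGroup (Fin 2) F) ∈ Subgroup.center _ then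
        ((θ c : ℂˣ) : ℂ) * (((Fintype.card F : ℂ) + 1) * (if c = 1 then 1 else β (-1))) else 0) := by
    intro c
    rw [T.psR_on_C hodd β c]
    split_ifs <;> simp [conj_mulChar_neg_one]
  simp_rw [h1]
  rw [T.sum_central hodd, if_pos rfl, if_neg (T.negC_ne_one hodd)]
  have hq1 : (Fintype.card F : ℂ) + 1 ≠ 0 := by exact_mod_cast Nat.succ_ne_zero (Fintype.card F)
  simp only [map_one, Units.val_one]
  field_simp

omit hodd in
theorem classInner_nsI_one (θ : T.C →* ℂˣ) [Decidable (θ = 1)] :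
    classInner (T.nsI θ) (fun _ => (1 : ℂ)) = if θ = 1 then 1 else 0 := by
  classical
  have : Fintype T.C := Fintype.ofFinite _
  rw [T.classInner_nsI θ _ (fun _ _ => rfl)]
  simp only [map_one, mul_one]
  rw [T.sum_theta]
  have hq1 : (Fintype.card F : ℂ) + 1 ≠ 0 := by exact_mod_cast Nat.succ_ne_zero (Fintype.card F)
  split_ifs
  · field_simp
  · simp

end odd

end NSGen

end Cfsg.Agent.Lib.Helper41
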