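import Cfsg.Agent.Lib.Helper41.DSeries

/-!
# The discrete series characters `X(α, θ) = (R(1) - 2) R(α) - Ind θ` of `SL₂(F)`, `q` odd
-/

set_option autoImplicit false
set_option linter.unusedSectionVars false

namespace Cfsg.Agent.Lib.Helper41

open Cfsg Cfsg.Agent.Lib.Helper15
open scoped ComplexConjugate

variable {F : Type*} [Field F] [Fintype F] [DecidableEq F]

/-- every element of the Borel subgroup is some `bor r s`. -/
theorem eq_bor_of_10 (g : Matrix.SpecialLinearGroup (Fin 2) F) (h : g.1 1 0 = 0) :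
    ∃ (r : Fˣ), (r : F) = g.1 0 0 ∧ g = bor r (g.1 0 1) := by
  obtain ⟨⟨r, s⟩, hrs⟩ := (bor_bijective (F := F)).2 ⟨g, (mem_borel_iff g).2 h⟩
  have h1 : bor r s = g := congrArg Subtype.val hrs
  refine ⟨r, ?_, ?_⟩
  · rw [← h1, bor_00]
  · rw [← h1, bor_01]

theorem neg_one_mem_borel : (-1 : Matrix.SpecialLinearGroup (Fin 2) F) ∈
    (Cfsg.upperTriangularGL 2 F).comap Matrix.SpecialLinearGroup.toGL := by
  rw [mem_borel_iff, Matrix.SpecialLinearGroup.coe_neg]
  simp

theorem neg_one_mem_center :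
    (-1 : Matrix.SpecialLinearGroup (Fin 2) F) ∈ Subgroup.center _ := by
  rw [sl2_mem_center_iff]
  right
  simp

theorem psR_neg (α : MulChar F ℂ) (g : Matrix.SpecialLinearGroup (Fin 2) F) :
    psR α (-1 * g) = α (-1) * psR α g := by
  rw [psR_def]
  apply indFun_central_mul _ _ ⟨-1, neg_one_mem_borel⟩ neg_one_mem_center
  intro h
  rw [← map_mul]
  congr 1
  simp [Matrix.SpecialLinearGroup.coe_neg]

theorem psY_neg (α : MulChar F ℂ) (g : Matrix.SpecialLinearGroup (Fin 2) F) :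
    psY α (-1 * g) = α (-1) * psY α g := by
  rw [psY_apply, psY_apply, psR_neg, psR_neg]
  simp only [MulChar.one_apply (isUnit_one.neg), one_mul]
  ring

namespace NSGen

variable (T : NSGen F)

/-- the discrete series (virtual) character -/
noncomputable def dsX (α : MulChar F ℂ) (θ : T.C →* ℂˣ) : Matrix.SpecialLinearGroup (Fin 2) F → ℂ :=
  psY α - T.nsI θ

theorem dsX_def (α : MulChar F ℂ) (θ : T.C →* ℂˣ) : T.dsX α θ = psY α - T.nsI θ := rfl

theorem dsX_apply (α : MulChar F ℂ) (θ : T.C →* ℂˣ) (g : Matrix.SpecialLinearGroup (Fin 2) F) :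
    T.dsX α θ g = psY α g - T.nsI θ g := rfl

theorem dsX_isGen (α : MulChar F ℂ) (θ : T.C →* ℂˣ) :
    IsGeneralizedCharacter (Matrix.SpecialLinearGroup (Fin 2) F) (T.dsX α θ) :=
  Cfsg.Agent.Lib.Helper26.gen_sub (psY_isGen α)
    (Cfsg.Agent.Lib.Helper26.gen_of_char (T.nsI_isCharacter θ))

theorem dsX_cf (α : MulChar F ℂ) (θ : T.C →* ℂˣ) :
    IsClassFunction (Matrix.SpecialLinearGroup (Fin 2) F) (T.dsX α θ) :=
  Cfsg.Agent.Lib.Helper26.gen_classFunction (T.dsX_isGen α θ)

theorem dsX_one (α : MulChar F ℂ) (θ : T.C →* ℂˣ) : T.dsX α θ 1 = (Fintype.card F : ℂ) - 1 := by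
  rw [dsX_apply, nsI_one, ← bor_one_zero, psY_bor]
  simp
  ring

section odd
variable (hodd : Fintype.card F % 2 = 1)
include hodd

theorem classInner_dsX_dsX (α α' : MulChar F ℂ) (θ θ' : T.C →* ℂˣ)
    (h : α (-1) = ((θ (T.negC hodd) : ℂˣ) : ℂ)) (h' : α' (-1) = ((θ' (T.negC hodd) : ℂˣ) : ℂ))
    [Decidable (θ = θ')] [Decidable (θ = θ'⁻¹)] :
    classInner (T.dsX α θ) (T.dsX α' θ') = (if θ = θ' then 1 else 0) + (if θ = θ'⁻¹ then 1 else 0) := by
  have h2 : (2 : F) ≠ 0 := two_ne_zero_of_odd_card hodd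
  rw [dsX_def, dsX_def, classInner_sub_left, classInner_sub_right, classInner_sub_right,
    classInner_psY_psY h2, T.classInner_psY_nsI hodd, T.classInner_nsI_nsI hodd,
    ← classInner_conj_symm (psY α') (T.nsI θ), T.classInner_psY_nsI hodd]
  simp only [map_mul, map_sub, map_add, map_one, Complex.conj_natCast, conj_mulChar_neg_one,
    T.conj_theta_neg hodd, h, h']
  ring

theorem classInner_dsX_psR (α β : MulChar F ℂ) (θ : T.C →* ℂˣ)
    (h : α (-1) = ((θ (T.negC hodd) : ℂˣ) : ℂ)) :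
    classInner (T.dsX α θ) (psR β) = 0 := by
  have h2 : (2 : F) ≠ 0 := two_ne_zero_of_odd_card hodd
  rw [dsX_def, classInner_sub_left, classInner_psY_psR h2, T.classInner_nsI_psR hodd, h]
  ring

theorem classInner_dsX_one (α : MulChar F ℂ) (θ : T.C →* ℂˣ) [Decidable (θ = 1)] :
    classInner (T.dsX α θ) (fun _ => (1 : ℂ)) = if θ = 1 then -1 else 0 := by
  have h2 : (2 : F) ≠ 0 := two_ne_zero_of_odd_card hodd
  rw [dsX_def, classInner_sub_left, classInner_psY_one h2, T.classInner_nsI_one]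
  split_ifs <;> simp

theorem dsX_irr (α : MulChar F ℂ) (θ : T.C →* ℂˣ)
    (h : α (-1) = ((θ (T.negC hodd) : ℂˣ) : ℂ)) (hθ : θ ≠ θ⁻¹) :
    IsIrrCharacter (Matrix.SpecialLinearGroup (Fin 2) F) (T.dsX α θ) := by
  classical
  have hnorm := T.classInner_dsX_dsX hodd α α θ θ h h
  rw [if_pos rfl, if_neg hθ, add_zero] at hnorm
  rcases Cfsg.Agent.Lib.Helper26.gen_norm_one (T.dsX_isGen α θ) hnorm with h1 | h1
  · exact h1
  · exfalso
    obtain ⟨n, _, hn⟩ := Cfsg.Agent.Lib.Helper26.irr_degree h1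
    rw [Pi.neg_apply, dsX_one] at hn
    have hq : 2 ≤ Fintype.card F := Fintype.one_lt_card
    have h3 : ((n + Fintype.card F : ℕ) : ℂ) = ((1 : ℕ) : ℂ) := by
      push_cast
      rw [← hn]; ring
    have := Nat.cast_injective h3
    omega

theorem dsX_noncentral (α : MulChar F ℂ) (θ : T.C →* ℂˣ) (c : T.C)
    (hc : (c : Matrix.SpecialLinearGroup (Fin 2) F) ∉ Subgroup.center _) :
    T.dsX α θ (c : Matrix.SpecialLinearGroup (Fin 2) F) = -(((θ c : ℂˣ) : ℂ) + ((θ c)⁻¹ : ℂˣ)) := by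
  rw [dsX_apply, psY_apply, T.psR_on_C hodd α c, if_neg hc, T.nsI_noncentral hodd θ c hc, map_inv]
  ring

theorem dsX_neg (α : MulChar F ℂ) (θ : T.C →* ℂˣ)
    (h : α (-1) = ((θ (T.negC hodd) : ℂˣ) : ℂ)) (g : Matrix.SpecialLinearGroup (Fin 2) F) :
    T.dsX α θ (-1 * g) = ((θ (T.negC hodd) : ℂˣ) : ℂ) * T.dsX α θ g := by
  have h1 := T.nsI_central_mul θ (T.negC hodd) ((T.mem_center_iff hodd _).2 (Or.inr rfl)) g
  rw [negC_coe] at h1
  rw [dsX_apply, dsX_apply, psY_neg, h1, h]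
  ring

theorem dsX_bor (α : MulChar F ℂ) (θ : T.C →* ℂˣ) (r : Fˣ) (s : F) (hrs : r ^ 2 ≠ 1 ∨ s ≠ 0) :
    T.dsX α θ (bor r s) = if r ^ 2 = 1 then - α (r : F) else 0 := by
  have hnc : bor r s ∉ Subgroup.center (Matrix.SpecialLinearGroup (Fin 2) F) := by
    rcases hrs with h | h
    · rw [sl2_mem_center_iff]
      rintro (h1 | h1)
      · apply h
        have := congrFun (congrFun h1 0) 0
        rw [bor_00] at this
        simp at this
        rw [this]; simp
      · apply h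
        have := congrFun (congrFun h1 0) 0
        rw [bor_00] at this
        simp at this
        apply Units.ext
        rw [Units.val_pow_eq_pow_val, this]; simp
    · exact bor_not_central r s h
  rw [dsX_apply, T.nsI_eigenvector hodd θ _ hnc r ![1, 0]
      (by intro h; have := congrFun h 0; simp at this) (bor_eigenvector r s), psY_bor, sub_zero]
  split_ifs with h1 h2
  · exfalso
    rcases hrs with h | h
    · exact h h1
    · exact h h2
  · rfl
  · rfl

end odd

end NSGen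

/-- there is a multiplicative character with a prescribed sign at `-1`. -/
theorem exists_mulChar_neg_one (h2 : (2 : F) ≠ 0) (e : ℂ) (he : e = 1 ∨ e = -1) :
    ∃ α : MulChar F ℂ, α (-1) = e := by
  rcases he with rfl | rfl
  · exact ⟨1, MulChar.one_apply (isUnit_one.neg)⟩
  · have hne : (-1 : F) ≠ 1 := by
      intro h
      apply h2
      linear_combination -h
    obtain ⟨α, hα⟩ := MulChar.exists_apply_ne_one_of_hasEnoughRootsOfUnity F ℂ hne
    exact ⟨α, (mulChar_neg_one α).resolve_left hα⟩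

end Cfsg.Agent.Lib.Helper41
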