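import Cfsg.Agent.Lib.Helper15.Ind
import Mathlib

/-!
# Induced functions: the formula via conjugacy, central twists, the regular character
-/

set_option autoImplicit false

namespace Cfsg.Agent.Lib.Helper41

open Cfsg Cfsg.Agent.Lib.Helper15

variable {G : Type*} [Group G] [Fintype G]

open Classical in
/-- number of `x` conjugating `g` to `h`. -/
theorem card_conj_eq (g h : G) :
    ((Finset.univ.filter (fun x : G => x⁻¹ * g * x = h)).card : ℂ)
      = if IsConj g h then (Nat.card (Subgroup.centralizer ({g} : Set G)) : ℂ) else 0 := by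
  split_ifs with hc
  · obtain ⟨y, hy⟩ := isConj_iff.1 hc
    -- y * g * y⁻¹ = h
    congr 1
    rw [Nat.card_eq_fintype_card, ← Fintype.card_coe]
    apply Fintype.card_congr
    refine ⟨fun x => ⟨x.1 * y, ?_⟩, fun k => ⟨k.1 * y⁻¹, ?_⟩, ?_, ?_⟩
    · have hx := (Finset.mem_filter.1 x.2).2
      rw [Subgroup.mem_centralizer_singleton_iff]
      calc x.1 * y * g = x.1 * (y * g * y⁻¹) * y := by group
        _ = x.1 * (x.1⁻¹ * g * x.1) * y := by rw [hy, hx]
        _ = g * (x.1 * y) := by group
    · have hk := Subgroup.mem_centralizer_singleton_iff.1 k.2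
      rw [Finset.mem_filter]
      refine ⟨Finset.mem_univ _, ?_⟩
      calc (k.1 * y⁻¹)⁻¹ * g * (k.1 * y⁻¹) = y * (k.1⁻¹ * (g * k.1)) * y⁻¹ := by group
        _ = y * (k.1⁻¹ * (k.1 * g)) * y⁻¹ := by rw [hk]
        _ = y * g * y⁻¹ := by group
        _ = h := hy
    · intro x
      apply Subtype.ext
      simp
    · intro k
      apply Subtype.ext
      simp
  · rw [Finset.card_eq_zero.2]
    · simp
    · rw [Finset.filter_eq_empty_iff]
      intro x _ hx
      apply hc
      rw [isConj_iff]
      exact ⟨x⁻¹, by rw [inv_inv]; exact hx⟩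

open Classical in
/-- Induced function in terms of the elements of `H` conjugate to `g`. -/
theorem indFun_eq_sum_isConj (H : Subgroup G) [Fintype H] (φ : H → ℂ) (g : G) :
    indFun H φ g = (Nat.card H : ℂ)⁻¹ * (Nat.card (Subgroup.centralizer ({g} : Set G)) : ℂ)
      * ∑ h : H, if IsConj g (h : G) then φ h else 0 := by
  rw [indFun_apply, mul_assoc]
  congr 1
  have h1 : ∀ x : G, extendByZero H φ (x⁻¹ * g * x)
      = ∑ h : H, if x⁻¹ * g * x = (h : G) then φ h else 0 := by
    intro x
    by_cases hx : x⁻¹ * g * x ∈ H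
    · rw [extendByZero_mem H φ hx, Finset.sum_eq_single (⟨x⁻¹ * g * x, hx⟩ : H)]
      · simp
      · intro b _ hb
        rw [if_neg]
        intro h
        apply hb
        exact Subtype.ext h.symm
      · intro h
        exact absurd (Finset.mem_univ _) h
    · rw [extendByZero_not_mem H φ hx]
      symm
      apply Finset.sum_eq_zero
      intro h _
      rw [if_neg]
      intro h'
      apply hx
      rw [h']
      exact h.2
  simp_rw [h1]
  rw [Finset.sum_comm, Finset.mul_sum]
  apply Finset.sum_congr rfl
  intro h _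
  rw [← Finset.sum_filter, Finset.sum_const, nsmul_eq_mul, card_conj_eq]
  split_ifs <;> simp

/-- Twisting by a central element of `H`. -/
theorem indFun_central_mul (H : Subgroup G) (φ : H → ℂ) (z : H)
    (hz : (z : G) ∈ Subgroup.center G) (ω : ℂ) (hφ : ∀ h : H, φ (z * h) = ω * φ h) (g : G) :
    indFun H φ ((z : G) * g) = ω * indFun H φ g := by
  rw [indFun_apply, indFun_apply, mul_left_comm]
  congr 1
  rw [Finset.mul_sum]
  apply Finset.sum_congr rfl
  intro x _
  have hcomm : x⁻¹ * ((z : G) * g) * x = (z : G) * (x⁻¹ * g * x) := by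
    have := Subgroup.mem_center_iff.1 hz x⁻¹
    calc x⁻¹ * ((z : G) * g) * x = (x⁻¹ * (z : G)) * g * x := by group
      _ = ((z : G) * x⁻¹) * g * x := by rw [this]
      _ = (z : G) * (x⁻¹ * g * x) := by group
  rw [hcomm]
  by_cases hx : x⁻¹ * g * x ∈ H
  · rw [extendByZero_mem H φ hx, extendByZero_mem H φ (H.mul_mem z.2 hx)]
    exact hφ ⟨_, hx⟩
  · rw [extendByZero_not_mem H φ hx, extendByZero_not_mem H φ, mul_zero]
    intro h
    apply hx
    have := H.mul_mem (H.inv_mem z.2) h
    simpa using this

open Classical in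
/-- Inducing the regular character gives the regular character. -/
theorem indFun_regular (H : Subgroup G) (g : G) :
    indFun H (fun h : H => if h = 1 then (Nat.card H : ℂ) else 0) g
      = if g = 1 then (Nat.card G : ℂ) else 0 := by
  rw [indFun_apply]
  have hH : (Nat.card H : ℂ) ≠ 0 := card_ne_zero H
  split_ifs with hg
  · subst hg
    have : ∀ x : G, extendByZero H (fun h : H => if h = 1 then (Nat.card H : ℂ) else 0)
        (x⁻¹ * 1 * x) = (Nat.card H : ℂ) := by
      intro x
      have h1 : x⁻¹ * 1 * x = ((1 : H) : G) := by simp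
      rw [h1, extendByZero_coe]
      simp
    simp_rw [this]
    rw [Finset.sum_const, Finset.card_univ, nsmul_eq_mul, Nat.card_eq_fintype_card (α := G)]
    field_simp
  · have : ∀ x : G, extendByZero H (fun h : H => if h = 1 then (Nat.card H : ℂ) else 0)
        (x⁻¹ * g * x) = 0 := by
      intro x
      by_cases hx : x⁻¹ * g * x ∈ H
      · rw [extendByZero_mem H _ hx, if_neg]
        intro h
        apply hg
        have h2 : x⁻¹ * g * x = 1 := congrArg Subtype.val h
        have : g = x * (x⁻¹ * g * x) * x⁻¹ := by group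
        rw [this, h2]
        group
      · rw [extendByZero_not_mem H _ hx]
    simp_rw [this]
    simp

open Classical in
/-- inner product with the regular character. -/
theorem classInner_regular (χ : G → ℂ) :
    classInner (fun g : G => if g = 1 then (Nat.card G : ℂ) else 0) χ
      = (starRingEnd ℂ) (χ 1) := by
  unfold classInner
  rw [Finset.sum_eq_single (1 : G)]
  · simp only [if_true]
    rw [← mul_assoc, inv_mul_cancel₀ (card_ne_zero G), one_mul]
  · intro g _ hg
    simp only [if_neg hg, zero_mul]
  · intro h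
    exact absurd (Finset.mem_univ _) h

end Cfsg.Agent.Lib.Helper41
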