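import Cfsg.Agent.Lib.Helper41.BorelParam
import Cfsg.Agent.Lib.Helper41.IndConj
import Cfsg.Agent.Lib.Helper15.CharTools
import Cfsg.Agent.Lib.Helper3.Perm

/-!
# The principal series `R(α)` of `SL₂(F)` as characters: values on the Borel subgroup,
inner products, central twist.  No hypothesis on the parity of `q`.
-/

set_option autoImplicit false

namespace Cfsg.Agent.Lib.Helper41

open Cfsg Cfsg.Agent.Lib.Helper15
open scoped ComplexConjugate

variable {F : Type*} [Field F]

/-- An element with an eigenvector is conjugate into the Borel subgroup. -/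
theorem conj_bor_of_eigenvector (g : Matrix.SpecialLinearGroup (Fin 2) F) (c : F) (v : Fin 2 → F)
    (hv : v ≠ 0) (hgv : (g : Matrix (Fin 2) (Fin 2) F).mulVec v = c • v) :
    ∃ (x : Matrix.SpecialLinearGroup (Fin 2) F) (r : Fˣ) (s : F), x⁻¹ * g * x = bor r s := by
  have e0 := congrFun hgv 0
  have e1 := congrFun hgv 1
  simp [Matrix.mulVec, dotProduct, Fin.sum_univ_two] at e0 e1
  have key : ∃ x : Matrix.SpecialLinearGroup (Fin 2) F,
      x⁻¹ * g * x ∈ (Cfsg.upperTriangularGL 2 F).comap Matrix.SpecialLinearGroup.toGL := by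
    by_cases h0 : v 0 = 0
    · have h1 : v 1 ≠ 0 := by
        intro h1
        apply hv
        funext i
        fin_cases i
        · exact h0
        · exact h1
      refine ⟨weyl2, ?_⟩
      rw [mem_borel_iff, weyl2_conj_10, neg_eq_zero]
      rw [h0] at e0
      simp at e0
      exact e0.resolve_right h1
    · refine ⟨lowU (v 1 / v 0), ?_⟩
      rw [mem_borel_iff, lowU_conj_10]
      field_simp
      linear_combination (v 0) * e1 - (v 1) * e0
  obtain ⟨x, hx⟩ := key
  obtain ⟨⟨r, s⟩, hrs⟩ := (bor_bijective (F := F)).2 ⟨_, hx⟩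
  exact ⟨x, r, s, (congrArg Subtype.val hrs).symm⟩

/-- `bor r s` has an eigenvector. -/
theorem bor_eigenvector (r : Fˣ) (s : F) :
    (bor r s : Matrix (Fin 2) (Fin 2) F).mulVec ![1, 0] = (r : F) • ![1, 0] := by
  rw [bor_coe]
  funext i
  fin_cases i <;> simp [Matrix.mulVec, dotProduct, Fin.sum_univ_two]

/-- having an eigenvector is invariant under conjugation. -/
theorem eigenvector_conj (g x : Matrix.SpecialLinearGroup (Fin 2) F) (c : F) (v : Fin 2 → F)
    (hv : v ≠ 0) (hgv : ((x⁻¹ * g * x : Matrix.SpecialLinearGroup (Fin 2) F) :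
      Matrix (Fin 2) (Fin 2) F).mulVec v = c • v) :
    ∃ w : Fin 2 → F, w ≠ 0 ∧ (g : Matrix (Fin 2) (Fin 2) F).mulVec w = c • w := by
  refine ⟨(x : Matrix (Fin 2) (Fin 2) F).mulVec v, ?_, ?_⟩
  · intro h
    apply hv
    have := congrArg ((x⁻¹ : Matrix.SpecialLinearGroup (Fin 2) F) :
      Matrix (Fin 2) (Fin 2) F).mulVec h
    rw [Matrix.mulVec_mulVec, ← Matrix.SpecialLinearGroup.coe_mul, inv_mul_cancel] at this
    simpa using this
  · have := congrArg (x : Matrix (Fin 2) (Fin 2) F).mulVec hgv
    rw [Matrix.mulVec_mulVec, ← Matrix.SpecialLinearGroup.coe_mul, Matrix.mulVec_smul] at this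
    have hx : x * (x⁻¹ * g * x) = g * x := by group
    rw [hx] at this
    rw [← this, Matrix.mulVec_mulVec, ← Matrix.SpecialLinearGroup.coe_mul]

/-- the diagonal homomorphism of the Borel subgroup. -/
def borelDiag : ((Cfsg.upperTriangularGL 2 F).comap
    (Matrix.SpecialLinearGroup.toGL : Matrix.SpecialLinearGroup (Fin 2) F →* _)) →* Fˣ where
  toFun b := Units.mkOfMulEqOne (b.1.1 0 0) (b.1.1 1 1) (borel_00_mul_11 _ ((mem_borel_iff _).1 b.2))
  map_one' := by
    apply Units.ext
    simp
  map_mul' a b := by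
    apply Units.ext
    simp only [Units.val_mkOfMulEqOne, Units.val_mul, Subgroup.coe_mul]
    exact borel_mul_00 _ _ ((mem_borel_iff _).1 b.2)

theorem borelDiag_coe (b : ((Cfsg.upperTriangularGL 2 F).comap
    (Matrix.SpecialLinearGroup.toGL : Matrix.SpecialLinearGroup (Fin 2) F →* _))) :
    ((borelDiag b : Fˣ) : F) = b.1.1 0 0 := rfl

theorem borel_linear_isIrr (α : MulChar F ℂ) :
    IsIrrCharacter ((Cfsg.upperTriangularGL 2 F).comap
    (Matrix.SpecialLinearGroup.toGL : Matrix.SpecialLinearGroup (Fin 2) F →* _))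
      (fun b => α (((b : Matrix.SpecialLinearGroup (Fin 2) F) : Matrix (Fin 2) (Fin 2) F) 0 0)) := by
  have := Cfsg.Agent.Lib.Helper3.isIrrCharacter_of_hom (α.toUnitHom.comp (borelDiag (F := F)))
  convert this using 2
  rw [MonoidHom.comp_apply, MulChar.coe_toUnitHom, borelDiag_coe]

section fin
variable [Fintype F] [DecidableEq F]

/-- The principal series function. -/
noncomputable def psR (α : MulChar F ℂ) : Matrix.SpecialLinearGroup (Fin 2) F → ℂ :=
  Cfsg.indFun ((Cfsg.upperTriangularGL 2 F).comap Matrix.SpecialLinearGroup.toGL)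
    (fun b => α (((b : Matrix.SpecialLinearGroup (Fin 2) F) : Matrix (Fin 2) (Fin 2) F) 0 0))

theorem psR_def (α : MulChar F ℂ) : psR α =
  Cfsg.indFun ((Cfsg.upperTriangularGL 2 F).comap Matrix.SpecialLinearGroup.toGL)
    (fun b => α (((b : Matrix.SpecialLinearGroup (Fin 2) F) : Matrix (Fin 2) (Fin 2) F) 0 0)) := rfl

theorem psR_isCharacter (α : MulChar F ℂ) :
    IsCharacter (Matrix.SpecialLinearGroup (Fin 2) F) (psR α) :=
  char_indFun _ (irr_char (borel_linear_isIrr α))

theorem psR_cf (α : MulChar F ℂ) :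
    IsClassFunction (Matrix.SpecialLinearGroup (Fin 2) F) (psR α) :=
  indFun_isClassFunction _ _

theorem psR_no_eigenvector (α : MulChar F ℂ) (g : Matrix.SpecialLinearGroup (Fin 2) F)
    (h : ∀ (c : F) (v : Fin 2 → F), v ≠ 0 → (g : Matrix (Fin 2) (Fin 2) F).mulVec v ≠ c • v) :
    psR α g = 0 := by
  rw [psR_def, principalSeries_formula]
  have h1 : ∀ c : F, ¬ (g.1 1 0 + (g.1 1 1 - g.1 0 0) * c - g.1 0 1 * c ^ 2 = 0) := by
    intro c hc
    apply h (g.1 0 0 + g.1 0 1 * c) ![1, c]
    · intro h0
      have := congrFun h0 0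
      simp at this
    · funext i
      fin_cases i
      · simp [Matrix.mulVec, dotProduct, Fin.sum_univ_two]
      · simp [Matrix.mulVec, dotProduct, Fin.sum_univ_two]
        linear_combination hc
  have h2 : ¬ (g.1 0 1 = 0) := by
    intro hc
    apply h (g.1 1 1) ![0, 1]
    · intro h0
      have := congrFun h0 1
      simp at this
    · funext i
      fin_cases i
      · simp [Matrix.mulVec, dotProduct, Fin.sum_univ_two, hc]
      · simp [Matrix.mulVec, dotProduct, Fin.sum_univ_two]
  simp [h1, h2]

theorem principalSeries_formula' (α : MulChar F ℂ) (g : Matrix.SpecialLinearGroup (Fin 2) F)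
    (a b c d : F) (h00 : g.1 0 0 = a) (h01 : g.1 0 1 = b) (h10 : g.1 1 0 = c) (h11 : g.1 1 1 = d) :
    psR α g = (∑ x : F, if c + (d - a) * x - b * x ^ 2 = 0 then α (a + b * x) else 0)
      + (if b = 0 then α d else 0) := by
  subst h00 h01 h10 h11
  rw [psR_def, principalSeries_formula]

/-- values of `R(α)` on the Borel subgroup. -/
theorem psR_bor (α : MulChar F ℂ) (r : Fˣ) (s : F) :
    psR α (bor r s) = if r ^ 2 = 1 then (if s = 0 then ((Fintype.card F : ℂ) + 1) * α (r : F)
      else α (r : F)) else α (r : F) + α ((r⁻¹ : Fˣ) : F) := by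
  rw [principalSeries_formula' α (bor r s) (r : F) s 0 ((r⁻¹ : Fˣ) : F) rfl rfl rfl rfl]
  have hr0 : (r : F) ≠ 0 := r.ne_zero
  by_cases hr : r ^ 2 = 1
  · have hinv : ((r⁻¹ : Fˣ) : F) = (r : F) := by
      have : r⁻¹ = r := by
        rw [inv_eq_iff_mul_eq_one, ← sq]; exact hr
      rw [this]
    rw [if_pos hr, hinv]
    by_cases hs : s = 0
    · subst hs
      simp [Finset.card_univ]
      ring
    · rw [if_neg hs, if_neg hs, add_zero]
      rw [Finset.sum_eq_single (0 : F)]
      · simp
      · intro c _ hc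
        refine if_neg ?_
        intro h
        have : s * c ^ 2 = 0 := by linear_combination -h
        rcases mul_eq_zero.1 this with h1 | h1
        · exact hs h1
        · exact hc (pow_eq_zero_iff (two_ne_zero) |>.1 h1)
      · intro h
        exact absurd (Finset.mem_univ _) h
  · have hne : ((r⁻¹ : Fˣ) : F) - (r : F) ≠ 0 := by
      intro h
      apply hr
      apply Units.ext
      rw [Units.val_pow_eq_pow_val, Units.val_one]
      have h1 : ((r⁻¹ : Fˣ) : F) * (r : F) = 1 := by simp
      rw [sub_eq_zero.1 h] at h1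
      rw [sq]; exact h1
    rw [if_neg hr]
    by_cases hs : s = 0
    · subst hs
      rw [if_pos rfl]
      congr 1
      rw [Finset.sum_eq_single (0 : F)]
      · simp
      · intro c _ hc
        refine if_neg ?_
        intro h
        have : (((r⁻¹ : Fˣ) : F) - (r : F)) * c = 0 := by linear_combination h
        rcases mul_eq_zero.1 this with h1 | h1
        · exact hne h1
        · exact hc h1
      · intro h
        exact absurd (Finset.mem_univ _) h
    · rw [if_neg hs, add_zero]
      have hc1 : (((r⁻¹ : Fˣ) : F) - (r : F)) / s ≠ 0 := div_ne_zero hne hs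
      rw [← Finset.add_sum_erase _ _ (Finset.mem_univ (0 : F)),
        Finset.sum_eq_single ((((r⁻¹ : Fˣ) : F) - (r : F)) / s)]
      · congr 1
        · simp
        · rw [if_pos]
          · congr 1
            field_simp
            ring
          · field_simp
            ring
      · intro c hc hc2
        refine if_neg ?_
        intro h
        have hc0 : c ≠ 0 := (Finset.mem_erase.1 hc).1
        apply hc2
        rw [eq_div_iff hs]
        have : c * ((((r⁻¹ : Fˣ) : F) - (r : F)) - c * s) = 0 := by linear_combination h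
        rcases mul_eq_zero.1 this with h1 | h1
        · exact absurd h1 hc0
        · linear_combination -h1
      · intro h
        exfalso
        apply h
        rw [Finset.mem_erase]
        exact ⟨hc1, Finset.mem_univ _⟩

/-- inner product of two principal series functions (any `q`). -/
theorem classInner_psR (α β : MulChar F ℂ) [Decidable (α = β)] [Decidable (α = β⁻¹)] :
    classInner (psR α) (psR β) = (if α = β then 1 else 0) + (if α = β⁻¹ then 1 else 0) := by
  classical
  have : Fintype ((Cfsg.upperTriangularGL 2 F).comap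
    (Matrix.SpecialLinearGroup.toGL : Matrix.SpecialLinearGroup (Fin 2) F →* _)) :=
    Fintype.ofFinite _
  rw [psR_def α, classInner_indFun_left _ _ _ (psR_cf β)]
  unfold classInner
  rw [card_borel]
  rw [← Fintype.sum_equiv (Equiv.ofBijective _ (bor_bijective (F := F)))
    (fun p => α (p.1 : F) * conj (psR β (bor p.1 p.2))) _ (fun p => rfl)]
  rw [Fintype.sum_prod_type]
  simp_rw [← Finset.mul_sum, ← map_sum, psR_def, sum_principalSeries_bor]
  have h1 : ∀ r : Fˣ, α (r : F) * conj ((Fintype.card F : ℂ) * (β (r : F) + β ((r⁻¹ : Fˣ) : F)))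
      = (Fintype.card F : ℂ) * ((α * β⁻¹) (r : F) + (α * β) (r : F)) := by
    intro r
    rw [map_mul, map_add, Complex.conj_natCast, starRingEnd_apply, starRingEnd_apply,
      MulChar.star_apply', MulChar.star_apply', MulChar.mul_apply, MulChar.mul_apply,
      MulChar.inv_apply' β ((r⁻¹ : Fˣ) : F), Units.val_inv_eq_inv_val, inv_inv]
    ring
  simp_rw [h1]
  rw [← Finset.mul_sum, Finset.sum_add_distrib, sum_units_mulChar_eq, sum_units_mulChar_eq]
  have hq : (Fintype.card F : ℂ) ≠ 0 := by exact_mod_cast Fintype.card_ne_zero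
  have hq1 : (Fintype.card F : ℂ) - 1 ≠ 0 := by
    rw [sub_ne_zero]
    exact_mod_cast (Fintype.one_lt_card (α := F)).ne'
  simp only [mul_eq_one_iff_eq_inv, inv_inv]
  split_ifs <;> field_simp <;> ring

/-- Sum over the Borel subgroup via the parametrisation. -/
theorem classInner_indFun_borel (γ : ((Cfsg.upperTriangularGL 2 F).comap
    (Matrix.SpecialLinearGroup.toGL : Matrix.SpecialLinearGroup (Fin 2) F →* _)) → ℂ)
    (f : Matrix.SpecialLinearGroup (Fin 2) F → ℂ)
    (hf : IsClassFunction (Matrix.SpecialLinearGroup (Fin 2) F) f) :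
    classInner (indFun _ γ) f = (((Fintype.card F : ℂ) - 1) * Fintype.card F)⁻¹ *
      ∑ r : Fˣ, ∑ s : F, γ ⟨bor r s, bor_mem r s⟩ * conj (f (bor r s)) := by
  classical
  have : Fintype ((Cfsg.upperTriangularGL 2 F).comap
    (Matrix.SpecialLinearGroup.toGL : Matrix.SpecialLinearGroup (Fin 2) F →* _)) :=
    Fintype.ofFinite _
  rw [classInner_indFun_left _ _ _ hf]
  unfold classInner
  rw [card_borel]
  rw [← Fintype.sum_equiv (Equiv.ofBijective _ (bor_bijective (F := F)))
    (fun p => γ ⟨bor p.1 p.2, bor_mem p.1 p.2⟩ * conj (f (bor p.1 p.2))) _ (fun p => rfl)]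
  rw [Fintype.sum_prod_type]

end fin

end Cfsg.Agent.Lib.Helper41
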