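import Cfsg.Agent.Lib.Helper41.NonsplitTorus
import Cfsg.Agent.Lib.Helper41.PSeries
import Cfsg.Agent.Lib.Helper5.LinearCard

/-!
# Functions induced from a non-split torus of `SL₂(F)`, `q` odd
-/

set_option autoImplicit false
set_option linter.unusedSectionVars false

namespace Cfsg.Agent.Lib.Helper41

open Cfsg Cfsg.Agent.Lib.Helper15
open scoped ComplexConjugate

variable {F : Type*} [Field F] [Fintype F] [DecidableEq F]

theorem sq_eq_one_iff_of_side_aux {x : ℂ} (h : x ^ 2 = 1) : x = 1 ∨ x = -1 := by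
  have : (x - 1) * (x + 1) = 0 := by linear_combination h
  rcases mul_eq_zero.1 this with h | h
  · left; exact sub_eq_zero.1 h
  · right; exact eq_neg_of_add_eq_zero_left h

namespace NSGen

variable (T : NSGen F)

/-- the function induced from a linear character of the non-split torus -/
noncomputable def nsI (θ : T.C →* ℂˣ) : Matrix.SpecialLinearGroup (Fin 2) F → ℂ :=
  indFun T.C (fun c => (θ c : ℂ))

theorem nsI_def (θ : T.C →* ℂˣ) : T.nsI θ = indFun T.C (fun c => (θ c : ℂ)) := rfl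

theorem nsI_cf (θ : T.C →* ℂˣ) : IsClassFunction (Matrix.SpecialLinearGroup (Fin 2) F) (T.nsI θ) :=
  indFun_isClassFunction _ _

theorem nsI_isCharacter (θ : T.C →* ℂˣ) :
    IsCharacter (Matrix.SpecialLinearGroup (Fin 2) F) (T.nsI θ) :=
  char_indFun _ (irr_char (Cfsg.Agent.Lib.Helper3.isIrrCharacter_of_hom θ))

theorem index_C : (T.C.index : ℂ) = (Fintype.card F : ℂ) * ((Fintype.card F : ℂ) - 1) := by
  have h1 := T.C.card_mul_index
  rw [T.card_C, Cfsg.Agent.Lib.Helper5.card_SL2] at h1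
  have hq : 1 ≤ Fintype.card F := Fintype.card_pos
  have h2 : ((Fintype.card F + 1 : ℕ) : ℂ) * (T.C.index : ℂ)
      = ((Fintype.card F * (Fintype.card F ^ 2 - 1) : ℕ) : ℂ) := by exact_mod_cast h1
  rw [Nat.cast_mul, Nat.cast_sub (Nat.one_le_pow _ _ hq)] at h2
  push_cast at h2
  have h3 : ((Fintype.card F : ℂ) + 1) ≠ 0 := by exact_mod_cast Nat.succ_ne_zero (Fintype.card F)
  apply mul_left_cancel₀ h3
  rw [h2]; ring

theorem nsI_one (θ : T.C →* ℂˣ) :
    T.nsI θ 1 = (Fintype.card F : ℂ) * ((Fintype.card F : ℂ) - 1) := by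
  rw [nsI_def, indFun_one, index_C]
  simp

theorem nsI_central_mul (θ : T.C →* ℂˣ) (z : T.C)
    (hz : (z : Matrix.SpecialLinearGroup (Fin 2) F) ∈ Subgroup.center _)
    (g : Matrix.SpecialLinearGroup (Fin 2) F) :
    T.nsI θ ((z : Matrix.SpecialLinearGroup (Fin 2) F) * g) = (θ z : ℂ) * T.nsI θ g := by
  rw [nsI_def]
  apply indFun_central_mul _ _ z hz
  intro h
  rw [map_mul, Units.val_mul]

theorem nsI_central (θ : T.C →* ℂˣ) (z : T.C)
    (hz : (z : Matrix.SpecialLinearGroup (Fin 2) F) ∈ Subgroup.center _) :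
    T.nsI θ (z : Matrix.SpecialLinearGroup (Fin 2) F)
      = (Fintype.card F : ℂ) * ((Fintype.card F : ℂ) - 1) * (θ z : ℂ) := by
  have := T.nsI_central_mul θ z hz 1
  rw [mul_one, nsI_one] at this
  rw [this]; ring

section odd
variable (hodd : Fintype.card F % 2 = 1)
include hodd

theorem nsI_noncentral (θ : T.C →* ℂˣ) (c : T.C)
    (hc : (c : Matrix.SpecialLinearGroup (Fin 2) F) ∉ Subgroup.center _) :
    T.nsI θ (c : Matrix.SpecialLinearGroup (Fin 2) F) = (θ c : ℂ) + (θ c⁻¹ : ℂ) := by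
  classical
  have : Fintype T.C := Fintype.ofFinite _
  rw [nsI_def, indFun_eq_sum_isConj, T.card_C, T.card_centralizer hodd c.2 hc,
    inv_mul_cancel₀ (Nat.cast_ne_zero.2 (Nat.succ_ne_zero (Fintype.card F))), one_mul]
  have hne : c ≠ c⁻¹ := by
    intro h
    exact NSGen.ne_inv hodd hc (by have := congrArg Subtype.val h; simpa using this)
  rw [← Finset.add_sum_erase _ _ (Finset.mem_univ c), if_pos (IsConj.refl _)]
  congr 1
  rw [Finset.sum_eq_single c⁻¹]
  · rw [if_pos]
    rw [Subgroup.coe_inv]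
    exact T.isConj_inv hodd c.2 hc
  · intro b hb hb2
    rw [if_neg]
    intro h
    rcases T.eq_or_eq_inv_of_isConj c.2 b.2 h with h1 | h1
    · exact (Finset.mem_erase.1 hb).1 (Subtype.ext h1)
    · exact hb2 (Subtype.ext (by rw [h1, Subgroup.coe_inv]))
  · intro h
    exfalso
    apply h
    rw [Finset.mem_erase]
    exact ⟨hne.symm, Finset.mem_univ _⟩

theorem nsI_eigenvector (θ : T.C →* ℂˣ) (g : Matrix.SpecialLinearGroup (Fin 2) F)
    (hg : g ∉ Subgroup.center (Matrix.SpecialLinearGroup (Fin 2) F))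
    (a : F) (v : Fin 2 → F) (hv : v ≠ 0) (hgv : (g : Matrix (Fin 2) (Fin 2) F).mulVec v = a • v) :
    T.nsI θ g = 0 := by
  classical
  have : Fintype T.C := Fintype.ofFinite _
  rw [nsI_def, indFun_eq_sum_isConj]
  rw [Finset.sum_eq_zero, mul_zero]
  intro c _
  rw [if_neg]
  intro h
  obtain ⟨y, hy⟩ := isConj_iff.1 h
  have hcz : (c : Matrix.SpecialLinearGroup (Fin 2) F) ∉ Subgroup.center _ := by
    intro hc
    apply hg
    have : g = y⁻¹ * (c : Matrix.SpecialLinearGroup (Fin 2) F) * y := by rw [← hy]; group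
    rw [this]
    have h2 := Subgroup.mem_center_iff.1 hc y⁻¹
    rw [h2, mul_assoc, inv_mul_cancel, mul_one]
    exact hc
  -- transport the eigenvector
  have hg' : g = y⁻¹ * (c : Matrix.SpecialLinearGroup (Fin 2) F) * y := by rw [← hy]; group
  rw [hg'] at hgv
  obtain ⟨w, hw0, hw⟩ := eigenvector_conj _ y a v hv hgv
  exact T.no_eigenvector hodd c.2 hcz a w hw0 hw

/-- the element `-1` of the torus -/
def negC : T.C := ⟨-1, T.neg_one_mem hodd⟩

theorem negC_coe : ((T.negC hodd : T.C) : Matrix.SpecialLinearGroup (Fin 2) F) = -1 := rfl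

theorem negC_ne_one : T.negC hodd ≠ 1 := by
  intro h
  have := congrArg Subtype.val h
  exact sl2_neg_one_ne_one (two_ne_zero_of_odd_card hodd) this

theorem negC_mul_self : T.negC hodd * T.negC hodd = 1 := by
  apply Subtype.ext
  simp [negC_coe]

theorem mem_center_iff (c : T.C) :
    (c : Matrix.SpecialLinearGroup (Fin 2) F) ∈ Subgroup.center _ ↔ c = 1 ∨ c = T.negC hodd := by
  rw [sl2_mem_center_iff, ← sl2_eq_one_iff, ← sl2_eq_neg_one_iff]
  constructor
  · rintro (h | h)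
    · left; exact Subtype.ext h
    · right; exact Subtype.ext h
  · rintro (h | h)
    · left; rw [h]; rfl
    · right; rw [h]; rfl

theorem theta_neg_sq (θ : T.C →* ℂˣ) : ((θ (T.negC hodd) : ℂˣ) : ℂ) ^ 2 = 1 := by
  rw [← Units.val_pow_eq_pow_val, ← map_pow, sq, negC_mul_self, map_one, Units.val_one]

theorem theta_neg (θ : T.C →* ℂˣ) :
    ((θ (T.negC hodd) : ℂˣ) : ℂ) = 1 ∨ ((θ (T.negC hodd) : ℂˣ) : ℂ) = -1 :=
  sq_eq_one_iff_of_side_aux (T.theta_neg_sq hodd θ)

end odd

end NSGen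

end Cfsg.Agent.Lib.Helper41
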