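import Cfsg.Agent.Lib.Helper41.SL2Eigen2
import Cfsg.Agent.Lib.Helper41.QuadForm
import Cfsg.Agent.Lib.Helper41.SL2Conj
import Cfsg.Agent.S2429

/-!
# Cyclic subgroups of order `q + 1` of `SL₂(F)`, `q` odd
-/

set_option autoImplicit false

namespace Cfsg.Agent.Lib.Helper41

open Cfsg

theorem card_centralizer_of_isConj {G : Type*} [Group G] {g h : G} (hc : IsConj g h) :
    Nat.card (Subgroup.centralizer ({g} : Set G)) = Nat.card (Subgroup.centralizer ({h} : Set G)) := by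
  obtain ⟨y, hy⟩ := isConj_iff.1 hc
  subst hy
  apply Nat.card_congr
  refine ⟨fun k => ⟨y * k.1 * y⁻¹, ?_⟩, fun k => ⟨y⁻¹ * k.1 * y, ?_⟩, ?_, ?_⟩
  · have hk := Subgroup.mem_centralizer_singleton_iff.1 k.2
    rw [Subgroup.mem_centralizer_singleton_iff]
    calc y * k.1 * y⁻¹ * (y * g * y⁻¹) = y * (k.1 * g) * y⁻¹ := by group
      _ = y * (g * k.1) * y⁻¹ := by rw [hk]
      _ = y * g * y⁻¹ * (y * k.1 * y⁻¹) := by group
  · have hk := Subgroup.mem_centralizer_singleton_iff.1 k.2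
    rw [Subgroup.mem_centralizer_singleton_iff]
    calc y⁻¹ * k.1 * y * g = y⁻¹ * (k.1 * (y * g * y⁻¹)) * y := by group
      _ = y⁻¹ * ((y * g * y⁻¹) * k.1) * y := by rw [hk]
      _ = g * (y⁻¹ * k.1 * y) := by group
  · intro k
    apply Subtype.ext
    simp only
    group
  · intro k
    apply Subtype.ext
    simp only
    group

variable {F : Type*} [Field F]

/-- the eigenvalue of an eigenvector is a root of the characteristic polynomial. -/
theorem root_of_eigenvector (X : Matrix.SpecialLinearGroup (Fin 2) F) (c : F) (v : Fin 2 → F)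
    (hv : v ≠ 0) (h : (X : Matrix (Fin 2) (Fin 2) F).mulVec v = c • v) :
    c ^ 2 - Matrix.trace (X : Matrix (Fin 2) (Fin 2) F) * c + 1 = 0 := by
  have hdet := sl2_det X
  have e0 := congrFun h 0
  have e1 := congrFun h 1
  simp [Matrix.mulVec, dotProduct, Fin.sum_univ_two] at e0 e1
  rw [Matrix.trace_fin_two]
  have h0 : (c ^ 2 - ((X : Matrix (Fin 2) (Fin 2) F) 0 0 + (X : Matrix (Fin 2) (Fin 2) F) 1 1) * c + 1)
      * v 0 = 0 := by
    linear_combination (-(v 0)) * hdet + ((X : Matrix (Fin 2) (Fin 2) F) 1 1 - c) * e0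
      - ((X : Matrix (Fin 2) (Fin 2) F) 0 1) * e1
  have h1 : (c ^ 2 - ((X : Matrix (Fin 2) (Fin 2) F) 0 0 + (X : Matrix (Fin 2) (Fin 2) F) 1 1) * c + 1)
      * v 1 = 0 := by
    linear_combination (-(v 1)) * hdet + ((X : Matrix (Fin 2) (Fin 2) F) 0 0 - c) * e1
      - ((X : Matrix (Fin 2) (Fin 2) F) 1 0) * e0
  by_contra hne
  apply hv
  funext i
  fin_cases i
  · exact (mul_eq_zero.1 h0).resolve_left hne
  · exact (mul_eq_zero.1 h1).resolve_left hne

variable [Fintype F]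

/-- A regular non-split element has no eigenvector. -/
theorem no_eigenvector_of_eigen (X : Matrix.SpecialLinearGroup (Fin 2) F) (m : AlgebraicClosure F)
    (hm0 : m ≠ 0) (hne : m ≠ m⁻¹)
    (hm : m + m⁻¹ = algebraMap F (AlgebraicClosure F) (Matrix.trace (X : Matrix (Fin 2) (Fin 2) F)))
    (hfrob : m ^ Fintype.card F = m⁻¹) (c : F) (v : Fin 2 → F) (hv : v ≠ 0) :
    (X : Matrix (Fin 2) (Fin 2) F).mulVec v ≠ c • v := by
  intro h
  have hroot := root_of_eigenvector X c v hv h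
  have h1 := congrArg (algebraMap F (AlgebraicClosure F)) hroot
  simp only [map_add, map_sub, map_mul, map_pow, map_one, map_zero] at h1
  rw [← hm] at h1
  have hmm : m * m⁻¹ = 1 := mul_inv_cancel₀ hm0
  have h2 : (algebraMap F (AlgebraicClosure F) c - m) * (algebraMap F (AlgebraicClosure F) c - m⁻¹) = 0 := by
    linear_combination h1 + hmm
  have hcq : (algebraMap F (AlgebraicClosure F) c) ^ Fintype.card F = algebraMap F (AlgebraicClosure F) c := by
    rw [← map_pow, FiniteField.pow_card]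
  rcases mul_eq_zero.1 h2 with h3 | h3
  · rw [sub_eq_zero] at h3
    apply hne
    rw [← hfrob, ← h3, hcq]
  · rw [sub_eq_zero] at h3
    apply hne
    have : m⁻¹ ^ Fintype.card F = m⁻¹ := by rw [← h3, hcq]
    rw [inv_pow, hfrob, inv_inv] at this
    exact this

theorem card_centralizer_le_of_eigen (hodd : Fintype.card F % 2 = 1)
    (X : Matrix.SpecialLinearGroup (Fin 2) F) (m : AlgebraicClosure F)
    (hm0 : m ≠ 0) (hne : m ≠ m⁻¹)
    (hm : m + m⁻¹ = algebraMap F (AlgebraicClosure F) (Matrix.trace (X : Matrix (Fin 2) (Fin 2) F)))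
    (hfrob : m ^ Fintype.card F = m⁻¹) :
    Nat.card (Subgroup.centralizer ({X} : Set (Matrix.SpecialLinearGroup (Fin 2) F)))
      ≤ Fintype.card F + 1 := by
  have ht4 := trace_sq_ne_four_of_eigen _ m hm0 hne hm
  obtain ⟨P, hP⟩ := sl2_conj_of_trace_eq hodd X
    (Cfsg.Agent.S2429.cp (Matrix.trace (X : Matrix (Fin 2) (Fin 2) F))) ht4
    (Cfsg.Agent.S2429.cp_trace _)
  have hc : IsConj X (Cfsg.Agent.S2429.cp (Matrix.trace (X : Matrix (Fin 2) (Fin 2) F))) :=
    isConj_iff.2 ⟨P, hP.symm⟩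
  rw [card_centralizer_of_isConj hc]
  exact Cfsg.Agent.S2429.card_centralizer_le _ m hm0 hm hfrob hne

/-- A generator of a non-split torus, with an eigenvalue of order `q + 1`. -/
structure NSGen (F : Type*) [Field F] [Fintype F] where
  A : Matrix.SpecialLinearGroup (Fin 2) F
  l : AlgebraicClosure F
  hl0 : l ≠ 0
  hl : l + l⁻¹ = algebraMap F (AlgebraicClosure F) (Matrix.trace (A : Matrix (Fin 2) (Fin 2) F))
  hord : orderOf l = Fintype.card F + 1

namespace NSGen

variable (T : NSGen F)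

theorem hq2 : 2 ≤ Fintype.card F := Fintype.one_lt_card

theorem hne : T.l ≠ T.l⁻¹ := by
  intro h
  have h2 : T.l ^ 2 = 1 := by
    rw [pow_two]
    nth_rewrite 2 [h]
    exact mul_inv_cancel₀ T.hl0
  have := Nat.le_of_dvd (by norm_num) (orderOf_dvd_of_pow_eq_one h2)
  rw [T.hord] at this
  have := hq2 (F := F)
  omega

theorem orderOf_A : orderOf T.A = Fintype.card F + 1 := by
  rw [sl2_orderOf_eq_eigen T.A T.l T.hl0 T.hne T.hl, T.hord]

theorem pow_card_succ : T.l ^ (Fintype.card F + 1) = 1 := by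
  rw [← T.hord]; exact pow_orderOf_eq_one _

theorem frob : T.l ^ Fintype.card F = T.l⁻¹ := by
  have := T.pow_card_succ
  rw [pow_succ] at this
  exact eq_inv_of_mul_eq_one_left this

theorem frob_pow (k : ℕ) : (T.l ^ k) ^ Fintype.card F = (T.l ^ k)⁻¹ := by
  rw [← pow_mul, mul_comm, pow_mul, T.frob, inv_pow]

theorem trace_pow (k : ℕ) :
    T.l ^ k + (T.l ^ k)⁻¹ = algebraMap F (AlgebraicClosure F)
      (Matrix.trace ((T.A ^ k : Matrix.SpecialLinearGroup (Fin 2) F) : Matrix (Fin 2) (Fin 2) F)) :=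
  (sl2_trace_pow_eigen T.A T.l T.hl0 T.hl k).symm

theorem pow_eq_pow_iff (i j : ℕ) : T.A ^ i = T.A ^ j ↔ T.l ^ i = T.l ^ j := by
  have h1 : T.l ^ i = T.l ^ j ↔ (Units.mk0 T.l T.hl0) ^ i = (Units.mk0 T.l T.hl0) ^ j := by
    rw [Units.ext_iff, Units.val_pow_eq_pow_val, Units.val_pow_eq_pow_val, Units.val_mk0]
  have h2 : orderOf (Units.mk0 T.l T.hl0) = Fintype.card F + 1 := by
    rw [← orderOf_units, Units.val_mk0, T.hord]
  rw [h1, pow_eq_pow_iff_modEq, pow_eq_pow_iff_modEq, T.orderOf_A, h2]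

theorem pow_eq_one_iff (i : ℕ) : T.A ^ i = 1 ↔ T.l ^ i = 1 :=
  sl2_pow_eq_one_iff_eigen T.A T.l T.hl0 T.hne T.hl i

/-- the torus -/
def C : Subgroup (Matrix.SpecialLinearGroup (Fin 2) F) := Subgroup.zpowers T.A

theorem mem_C_iff (c : Matrix.SpecialLinearGroup (Fin 2) F) : c ∈ T.C ↔ ∃ k : ℕ, T.A ^ k = c := by
  unfold C
  rw [← mem_powers_iff_mem_zpowers, Submonoid.mem_powers_iff]

theorem card_C : Nat.card T.C = Fintype.card F + 1 := by
  unfold C
  rw [Nat.card_zpowers, T.orderOf_A]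

theorem comm_C {a b : Matrix.SpecialLinearGroup (Fin 2) F} (ha : a ∈ T.C) (hb : b ∈ T.C) :
    a * b = b * a := by
  obtain ⟨i, rfl⟩ := (T.mem_C_iff a).1 ha
  obtain ⟨j, rfl⟩ := (T.mem_C_iff b).1 hb
  rw [← pow_add, ← pow_add, add_comm]

section odd
variable (hodd : Fintype.card F % 2 = 1)
include hodd

theorem central_iff (k : ℕ) :
    T.A ^ k ∈ Subgroup.center (Matrix.SpecialLinearGroup (Fin 2) F) ↔ T.l ^ k = (T.l ^ k)⁻¹ := by
  have h2 : (2 : F) ≠ 0 := two_ne_zero_of_odd_card hodd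
  have h1 : T.A ^ k ∈ Subgroup.center (Matrix.SpecialLinearGroup (Fin 2) F) ↔
      T.A ^ k * T.A ^ k = 1 := by
    rw [sl2_mul_self_eq_one_iff h2, sl2_mem_center_iff, sl2_eq_one_iff, sl2_eq_neg_one_iff]
  rw [h1, ← pow_add, T.pow_eq_one_iff, pow_add]
  have hk0 : T.l ^ k ≠ 0 := pow_ne_zero _ T.hl0
  constructor
  · intro h
    exact eq_inv_of_mul_eq_one_left h
  · intro h
    nth_rewrite 2 [h]
    exact mul_inv_cancel₀ hk0

theorem no_eigenvector {c : Matrix.SpecialLinearGroup (Fin 2) F} (hc : c ∈ T.C)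
    (hcz : c ∉ Subgroup.center (Matrix.SpecialLinearGroup (Fin 2) F)) (a : F) (v : Fin 2 → F)
    (hv : v ≠ 0) : (c : Matrix (Fin 2) (Fin 2) F).mulVec v ≠ a • v := by
  obtain ⟨k, rfl⟩ := (T.mem_C_iff c).1 hc
  rw [T.central_iff hodd] at hcz
  exact no_eigenvector_of_eigen _ (T.l ^ k) (pow_ne_zero _ T.hl0) hcz (T.trace_pow k)
    (T.frob_pow k) a v hv

theorem card_centralizer {c : Matrix.SpecialLinearGroup (Fin 2) F} (hc : c ∈ T.C)
    (hcz : c ∉ Subgroup.center (Matrix.SpecialLinearGroup (Fin 2) F)) :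
    Nat.card (Subgroup.centralizer ({c} : Set (Matrix.SpecialLinearGroup (Fin 2) F)))
      = Fintype.card F + 1 := by
  apply le_antisymm
  · obtain ⟨k, rfl⟩ := (T.mem_C_iff c).1 hc
    rw [T.central_iff hodd] at hcz
    exact card_centralizer_le_of_eigen hodd _ (T.l ^ k) (pow_ne_zero _ T.hl0) hcz (T.trace_pow k)
      (T.frob_pow k)
  · rw [← T.card_C]
    apply Subgroup.card_le_of_le
    intro x hx
    rw [Subgroup.mem_centralizer_singleton_iff]
    exact T.comm_C hx hc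

theorem trace_sq_ne_four {c : Matrix.SpecialLinearGroup (Fin 2) F} (hc : c ∈ T.C)
    (hcz : c ∉ Subgroup.center (Matrix.SpecialLinearGroup (Fin 2) F)) :
    Matrix.trace (c : Matrix (Fin 2) (Fin 2) F) ^ 2 ≠ 4 := by
  obtain ⟨k, rfl⟩ := (T.mem_C_iff c).1 hc
  rw [T.central_iff hodd] at hcz
  exact trace_sq_ne_four_of_eigen _ (T.l ^ k) (pow_ne_zero _ T.hl0) hcz (T.trace_pow k)

theorem isConj_inv {c : Matrix.SpecialLinearGroup (Fin 2) F} (hc : c ∈ T.C)
    (hcz : c ∉ Subgroup.center (Matrix.SpecialLinearGroup (Fin 2) F)) : IsConj c c⁻¹ := by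
  obtain ⟨P, hP⟩ := sl2_conj_of_trace_eq hodd c c⁻¹ (T.trace_sq_ne_four hodd hc hcz) (sl2_trace_inv c)
  exact isConj_iff.2 ⟨P, hP.symm⟩

theorem ne_inv {c : Matrix.SpecialLinearGroup (Fin 2) F}
    (hcz : c ∉ Subgroup.center (Matrix.SpecialLinearGroup (Fin 2) F)) : c ≠ c⁻¹ := by
  have h2 : (2 : F) ≠ 0 := two_ne_zero_of_odd_card hodd
  intro h
  apply hcz
  have h1 : c * c = 1 := by
    nth_rewrite 2 [h]
    exact mul_inv_cancel c
  rw [sl2_mul_self_eq_one_iff h2] at h1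
  rw [sl2_mem_center_iff, ← sl2_eq_one_iff, ← sl2_eq_neg_one_iff]
  exact h1

omit hodd in
theorem eq_or_eq_inv_of_trace {c c' : Matrix.SpecialLinearGroup (Fin 2) F} (hc : c ∈ T.C)
    (hc' : c' ∈ T.C) (htr : Matrix.trace (c' : Matrix (Fin 2) (Fin 2) F)
      = Matrix.trace (c : Matrix (Fin 2) (Fin 2) F)) : c' = c ∨ c' = c⁻¹ := by
  obtain ⟨i, rfl⟩ := (T.mem_C_iff c).1 hc
  obtain ⟨j, rfl⟩ := (T.mem_C_iff c').1 hc'
  have h1 := T.trace_pow i
  have h2 := T.trace_pow j
  rw [htr, ← h1] at h2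
  have hi0 : T.l ^ i ≠ 0 := pow_ne_zero _ T.hl0
  have hj0 : T.l ^ j ≠ 0 := pow_ne_zero _ T.hl0
  have h3 : (T.l ^ j - T.l ^ i) * (T.l ^ j * T.l ^ i - 1) = 0 := by
    field_simp at h2
    linear_combination h2
  rcases mul_eq_zero.1 h3 with h | h
  · left
    rw [T.pow_eq_pow_iff]
    exact sub_eq_zero.1 h
  · right
    rw [eq_inv_iff_mul_eq_one, ← pow_add, T.pow_eq_one_iff, pow_add]
    exact sub_eq_zero.1 h

omit hodd in
theorem eq_or_eq_inv_of_isConj {c c' : Matrix.SpecialLinearGroup (Fin 2) F} (hc : c ∈ T.C)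
    (hc' : c' ∈ T.C) (h : IsConj c c') : c' = c ∨ c' = c⁻¹ := by
  obtain ⟨y, hy⟩ := isConj_iff.1 h
  apply T.eq_or_eq_inv_of_trace hc hc'
  rw [← hy]
  exact sl2_trace_conj y c

theorem exists_conj_of_no_eigenvector (g : Matrix.SpecialLinearGroup (Fin 2) F)
    (hg : ∀ (c : F) (v : Fin 2 → F), v ≠ 0 → (g : Matrix (Fin 2) (Fin 2) F).mulVec v ≠ c • v) :
    ∃ c ∈ T.C, IsConj g c := by
  obtain ⟨n, hn0, hn⟩ := exists_eigen (L := AlgebraicClosure F) (Matrix.trace (g : Matrix (Fin 2) (Fin 2) F))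
  have hnq : n ^ Fintype.card F ≠ n := by
    intro h
    obtain ⟨r, rfl⟩ := mem_range_of_pow_card_eq (F := F) n h
    have hr0 : r ≠ 0 := by
      rintro rfl
      simp at hn0
    have hr : r + r⁻¹ = Matrix.trace (g : Matrix (Fin 2) (Fin 2) F) := by
      apply (algebraMap F (AlgebraicClosure F)).injective
      rw [← hn, map_add, map_inv₀]
    obtain ⟨v, hv0, hv⟩ := exists_eigenvector_of_root g r hr0 hr
    exact hg r v hv0 hv
  have hnq' : n ^ Fintype.card F = n⁻¹ := (eigen_frobenius _ n hn0 hn).resolve_left hnq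
  have hnne : n ≠ n⁻¹ := by
    intro h
    apply hnq
    rw [hnq', ← h]
  have hn1 : n ^ (Fintype.card F + 1) = 1 := by rw [pow_succ, hnq', inv_mul_cancel₀ hn0]
  have hprim : IsPrimitiveRoot T.l (Fintype.card F + 1) := by
    rw [← T.hord]; exact IsPrimitiveRoot.orderOf T.l
  obtain ⟨i, _, hi⟩ := hprim.eq_pow_of_pow_eq_one hn1
  have htr : Matrix.trace ((T.A ^ i : Matrix.SpecialLinearGroup (Fin 2) F) : Matrix (Fin 2) (Fin 2) F) =
      Matrix.trace (g : Matrix (Fin 2) (Fin 2) F) := by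
    apply (algebraMap F (AlgebraicClosure F)).injective
    rw [← T.trace_pow i, hi, hn]
  obtain ⟨P, hP⟩ := sl2_conj_of_trace_eq hodd g (T.A ^ i)
    (trace_sq_ne_four_of_eigen _ n hn0 hnne hn) htr
  exact ⟨T.A ^ i, (T.mem_C_iff _).2 ⟨i, rfl⟩, isConj_iff.2 ⟨P, hP.symm⟩⟩

theorem neg_one_eq_pow : (-1 : Matrix.SpecialLinearGroup (Fin 2) F) = T.A ^ ((Fintype.card F + 1) / 2) := by
  have h2 : (2 : F) ≠ 0 := two_ne_zero_of_odd_card hodd
  have h1 : T.A ^ ((Fintype.card F + 1) / 2) * T.A ^ ((Fintype.card F + 1) / 2) = 1 := by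
    rw [← pow_add]
    have : (Fintype.card F + 1) / 2 + (Fintype.card F + 1) / 2 = Fintype.card F + 1 := by omega
    rw [this, ← T.orderOf_A]
    exact pow_orderOf_eq_one _
  rcases (sl2_mul_self_eq_one_iff h2 _).1 h1 with h | h
  · exfalso
    have := orderOf_dvd_of_pow_eq_one h
    rw [T.orderOf_A] at this
    have h3 := Nat.le_of_dvd (by have := hq2 (F := F); omega) this
    have := hq2 (F := F)
    omega
  · exact h.symm

theorem neg_one_mem : (-1 : Matrix.SpecialLinearGroup (Fin 2) F) ∈ T.C :=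
  (T.mem_C_iff _).2 ⟨_, (T.neg_one_eq_pow hodd).symm⟩

end odd

end NSGen

/-- existence of a non-split torus -/
theorem exists_NSGen : Nonempty (NSGen F) := by
  have hq : 2 ≤ Fintype.card F := Fintype.one_lt_card
  obtain ⟨X, l, hl0, _, hlX, hord⟩ :=
    Cfsg.Agent.S2475.exists_torus_elt (F := F) (Fintype.card F + 1) (by omega) (Or.inr rfl)
  exact ⟨⟨X, l, hl0, hlX, hord⟩⟩

/-- every cyclic subgroup of order `q + 1` is a non-split torus. -/
theorem exists_NSGen_of_cyclic (C : Subgroup (Matrix.SpecialLinearGroup (Fin 2) F))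
    (hC : IsCyclic C) (hcard : Nat.card C = Fintype.card F + 1) : ∃ T : NSGen F, T.C = C := by
  have hq : 2 ≤ Fintype.card F := Fintype.one_lt_card
  obtain ⟨g, hg⟩ := hC.exists_generator
  have hordg : orderOf g = Fintype.card F + 1 := by
    rw [orderOf_eq_card_of_forall_mem_zpowers hg, hcard]
  have hordA : orderOf (g : Matrix.SpecialLinearGroup (Fin 2) F) = Fintype.card F + 1 := by
    rw [Subgroup.orderOf_coe, hordg]
  obtain ⟨l, hl0, hl⟩ := exists_eigen (L := AlgebraicClosure F)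
    (Matrix.trace ((g : Matrix.SpecialLinearGroup (Fin 2) F) : Matrix (Fin 2) (Fin 2) F))
  obtain ⟨p, hp⟩ := CharP.exists F
  haveI : Fact p.Prime := ⟨CharP.char_is_prime F p⟩
  obtain ⟨n, hpn, hn⟩ := FiniteField.card F p
  have hne : l ≠ l⁻¹ := by
    intro h
    have h2 : (l - 1) * (l + 1) = 0 := by
      have : l * l⁻¹ = 1 := mul_inv_cancel₀ hl0
      rw [← h] at this
      linear_combination this
    have hpow : (g : Matrix.SpecialLinearGroup (Fin 2) F) ^ (2 * p) = 1 := by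
      rw [sl2_eq_one_iff, Matrix.SpecialLinearGroup.coe_pow, mul_comm, pow_mul]
      rcases mul_eq_zero.1 h2 with h3 | h3
      · have hl1 : l = 1 := sub_eq_zero.1 h3
        have htr : Matrix.trace ((g : Matrix.SpecialLinearGroup (Fin 2) F) : Matrix (Fin 2) (Fin 2) F) = 2 := by
          apply (algebraMap F (AlgebraicClosure F)).injective
          rw [← hl, hl1, map_ofNat]; norm_num
        rw [sl2_pow_char_of_trace_two p _ htr, one_pow]
      · have hl1 : l = -1 := eq_neg_of_add_eq_zero_left h3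
        have htr : Matrix.trace ((g : Matrix.SpecialLinearGroup (Fin 2) F) : Matrix (Fin 2) (Fin 2) F) = -2 := by
          apply (algebraMap F (AlgebraicClosure F)).injective
          rw [← hl, hl1, map_neg, map_ofNat]; norm_num
        rw [sl2_pow_char_of_trace_neg_two p _ htr]; simp
    have hdvd := orderOf_dvd_of_pow_eq_one hpow
    rw [hordA] at hdvd
    have hcop : Nat.Coprime (Fintype.card F + 1) p := by
      rw [hn]
      have h1 : p ∣ p ^ (n : ℕ) := dvd_pow_self p n.ne_zero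
      rw [Nat.coprime_comm, Nat.Prime.coprime_iff_not_dvd hpn]
      intro h3
      have := (Nat.dvd_add_right h1).1 h3
      exact hpn.one_lt.ne' (Nat.dvd_one.1 this)
    have := Nat.le_of_dvd (by norm_num) (hcop.dvd_of_dvd_mul_right hdvd)
    omega
  have hord : orderOf l = Fintype.card F + 1 := by
    rw [← sl2_orderOf_eq_eigen _ l hl0 hne hl, hordA]
  refine ⟨⟨g, l, hl0, hl, hord⟩, ?_⟩
  unfold NSGen.C
  simp only
  apply le_antisymm
  · rw [Subgroup.zpowers_le]
    exact g.2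
  · intro x hx
    obtain ⟨k, hk⟩ := Subgroup.mem_zpowers_iff.1 (hg ⟨x, hx⟩)
    rw [Subgroup.mem_zpowers_iff]
    exact ⟨k, by have := congrArg Subtype.val hk; simpa using this⟩

end Cfsg.Agent.Lib.Helper41
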