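import Cfsg.Prelude.Def_ParabolicCharacters
import Cfsg.Agent.Lib.Helper15.Ind
import Mathlib

/-!
# The principal series functions `R(α)` of `SL₂(F)`: explicit formula
-/

set_option autoImplicit false

namespace Cfsg.Agent.Lib.Helper41

open Cfsg Cfsg.Agent.Lib.Helper15

/-- Induced function computed on a transversal. -/
theorem indFun_eq_sum_transversal {G : Type*} [Group G] [Fintype G] (H : Subgroup G)
    {ι : Type*} [Fintype ι] (t : ι → G)
    (ht : Function.Bijective (fun p : ι × H => t p.1 * (p.2 : G))) (θ : H → ℂ)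
    (hθ : ∀ h k : H, θ (k⁻¹ * h * k) = θ h) (g : G) :
    indFun H θ g = ∑ i, extendByZero H θ ((t i)⁻¹ * g * t i) := by
  classical
  have : Fintype H := Fintype.ofFinite H
  have hf : ∀ (y : G) (k : H), extendByZero H θ ((k : G)⁻¹ * y * k) = extendByZero H θ y := by
    intro y k
    by_cases hy : y ∈ H
    · have h1 : (k : G)⁻¹ * y * k ∈ H := H.mul_mem (H.mul_mem (H.inv_mem k.2) hy) k.2
      rw [extendByZero_mem H θ hy, extendByZero_mem H θ h1]
      exact hθ ⟨y, hy⟩ k
    · have h1 : (k : G)⁻¹ * y * k ∉ H := by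
        intro h
        apply hy
        have := H.mul_mem (H.mul_mem k.2 h) (H.inv_mem k.2)
        simpa [mul_assoc] using this
      rw [extendByZero_not_mem H θ hy, extendByZero_not_mem H θ h1]
  rw [indFun_apply]
  have h2 : ∑ x : G, extendByZero H θ (x⁻¹ * g * x)
      = ∑ p : ι × H, extendByZero H θ ((t p.1)⁻¹ * g * t p.1) := by
    symm
    apply Fintype.sum_equiv (Equiv.ofBijective _ ht)
    intro p
    rw [Equiv.ofBijective_apply]
    have : (t p.1 * (p.2 : G))⁻¹ * g * (t p.1 * (p.2 : G))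
        = (p.2 : G)⁻¹ * ((t p.1)⁻¹ * g * t p.1) * p.2 := by
      simp only [mul_inv_rev, mul_assoc]
    rw [this, hf]
  rw [h2, Fintype.sum_prod_type]
  simp only [Finset.sum_const, Finset.card_univ, nsmul_eq_mul]
  rw [← Finset.mul_sum, ← mul_assoc, Nat.card_eq_fintype_card, inv_mul_cancel₀, one_mul]
  exact_mod_cast Fintype.card_ne_zero

variable {F : Type*} [Field F]

theorem mem_borel_iff (M : Matrix.SpecialLinearGroup (Fin 2) F) :
    M ∈ (Cfsg.upperTriangularGL 2 F).comap Matrix.SpecialLinearGroup.toGL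
      ↔ (M : Matrix (Fin 2) (Fin 2) F) 1 0 = 0 := by
  rw [Subgroup.mem_comap]
  change ((M : Matrix (Fin 2) (Fin 2) F)).BlockTriangular id ↔ _
  constructor
  · intro h
    exact h (by decide)
  · intro h i j hij
    fin_cases i <;> fin_cases j <;> simp_all

/-- lower unitriangular element. -/
def lowU (c : F) : Matrix.SpecialLinearGroup (Fin 2) F :=
  ⟨!![1, 0; c, 1], by simp [Matrix.det_fin_two]⟩

theorem lowU_coe (c : F) : ((lowU c : Matrix.SpecialLinearGroup (Fin 2) F) :
    Matrix (Fin 2) (Fin 2) F) = !![1, 0; c, 1] := rfl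

/-- Weyl element. -/
def weyl2 : Matrix.SpecialLinearGroup (Fin 2) F :=
  ⟨!![0, -1; 1, 0], by simp [Matrix.det_fin_two]⟩

theorem weyl2_coe : ((weyl2 : Matrix.SpecialLinearGroup (Fin 2) F) :
    Matrix (Fin 2) (Fin 2) F) = !![0, -1; 1, 0] := rfl

/-- transversal of the Borel subgroup. -/
def trv : Option F → Matrix.SpecialLinearGroup (Fin 2) F
  | none => weyl2
  | some c => lowU c

theorem lowU_conj_10 (g : Matrix.SpecialLinearGroup (Fin 2) F) (c : F) :
    (((lowU c)⁻¹ * g * lowU c : Matrix.SpecialLinearGroup (Fin 2) F) :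
      Matrix (Fin 2) (Fin 2) F) 1 0
      = g.1 1 0 + (g.1 1 1 - g.1 0 0) * c - g.1 0 1 * c ^ 2 := by
  rw [Matrix.SpecialLinearGroup.coe_mul, Matrix.SpecialLinearGroup.coe_mul,
    Matrix.SpecialLinearGroup.coe_inv, lowU_coe]
  simp [Matrix.adjugate_fin_two, Matrix.mul_apply, Fin.sum_univ_two, Matrix.vecMul, dotProduct]
  ring

theorem lowU_conj_00 (g : Matrix.SpecialLinearGroup (Fin 2) F) (c : F) :
    (((lowU c)⁻¹ * g * lowU c : Matrix.SpecialLinearGroup (Fin 2) F) :
      Matrix (Fin 2) (Fin 2) F) 0 0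
      = g.1 0 0 + g.1 0 1 * c := by
  rw [Matrix.SpecialLinearGroup.coe_mul, Matrix.SpecialLinearGroup.coe_mul,
    Matrix.SpecialLinearGroup.coe_inv, lowU_coe]
  simp [Matrix.adjugate_fin_two, Matrix.mul_apply, Fin.sum_univ_two, Matrix.vecMul, dotProduct]

theorem weyl2_conj_10 (g : Matrix.SpecialLinearGroup (Fin 2) F) :
    (((weyl2)⁻¹ * g * weyl2 : Matrix.SpecialLinearGroup (Fin 2) F) :
      Matrix (Fin 2) (Fin 2) F) 1 0 = - g.1 0 1 := by
  rw [Matrix.SpecialLinearGroup.coe_mul, Matrix.SpecialLinearGroup.coe_mul,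
    Matrix.SpecialLinearGroup.coe_inv, weyl2_coe]
  simp [Matrix.adjugate_fin_two, Matrix.mul_apply, Fin.sum_univ_two, Matrix.vecMul, dotProduct]

theorem weyl2_conj_00 (g : Matrix.SpecialLinearGroup (Fin 2) F) :
    (((weyl2)⁻¹ * g * weyl2 : Matrix.SpecialLinearGroup (Fin 2) F) :
      Matrix (Fin 2) (Fin 2) F) 0 0 = g.1 1 1 := by
  rw [Matrix.SpecialLinearGroup.coe_mul, Matrix.SpecialLinearGroup.coe_mul,
    Matrix.SpecialLinearGroup.coe_inv, weyl2_coe]
  simp [Matrix.adjugate_fin_two, Matrix.mul_apply, Fin.sum_univ_two, Matrix.vecMul, dotProduct]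

theorem trv_inv_mul_10 (i : Option F) (x : Matrix.SpecialLinearGroup (Fin 2) F) :
    (((trv i)⁻¹ * x : Matrix.SpecialLinearGroup (Fin 2) F) : Matrix (Fin 2) (Fin 2) F) 1 0
      = match i with
        | none => - x.1 0 0
        | some c => x.1 1 0 - c * x.1 0 0 := by
  cases i with
  | none =>
    change (((weyl2)⁻¹ * x : Matrix.SpecialLinearGroup (Fin 2) F) :
      Matrix (Fin 2) (Fin 2) F) 1 0 = _
    rw [Matrix.SpecialLinearGroup.coe_mul, Matrix.SpecialLinearGroup.coe_inv, weyl2_coe]
    simp [Matrix.adjugate_fin_two, Matrix.mul_apply, Fin.sum_univ_two, Matrix.vecMul, dotProduct]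
  | some c =>
    change (((lowU c)⁻¹ * x : Matrix.SpecialLinearGroup (Fin 2) F) :
      Matrix (Fin 2) (Fin 2) F) 1 0 = _
    rw [Matrix.SpecialLinearGroup.coe_mul, Matrix.SpecialLinearGroup.coe_inv, lowU_coe]
    simp [Matrix.adjugate_fin_two, Matrix.mul_apply, Fin.sum_univ_two, Matrix.vecMul, dotProduct]
    ring

theorem trv_bijective : Function.Bijective
    (fun p : Option F × ((Cfsg.upperTriangularGL 2 F).comap Matrix.SpecialLinearGroup.toGL) =>
      trv p.1 * (p.2 : Matrix.SpecialLinearGroup (Fin 2) F)) := by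
  constructor
  · rintro ⟨i, b⟩ ⟨j, b'⟩ h
    simp only at h
    have h1 : (trv j)⁻¹ * trv i = (b' : Matrix.SpecialLinearGroup (Fin 2) F) * (b : Matrix.SpecialLinearGroup (Fin 2) F)⁻¹ := by
      rw [eq_mul_inv_iff_mul_eq, mul_assoc, h, inv_mul_cancel_left]
    have h2 : (trv j)⁻¹ * trv i ∈ (Cfsg.upperTriangularGL 2 F).comap Matrix.SpecialLinearGroup.toGL := by
      rw [h1]
      exact Subgroup.mul_mem _ b'.2 (Subgroup.inv_mem _ b.2)
    rw [mem_borel_iff, trv_inv_mul_10] at h2
    have hij : i = j := by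
      cases i with
      | none =>
        cases j with
        | none => rfl
        | some c =>
          exfalso
          simp [trv, weyl2] at h2
      | some c =>
        cases j with
        | none =>
          exfalso
          simp [trv, lowU] at h2
        | some c' =>
          simp [trv, lowU] at h2
          rw [sub_eq_zero.1 h2]
    subst hij
    have := mul_left_cancel h
    rw [Subtype.ext this]
  · intro x
    by_cases hx : x.1 0 0 = 0
    · refine ⟨(none, ⟨(trv none)⁻¹ * x, ?_⟩), ?_⟩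
      · rw [mem_borel_iff, trv_inv_mul_10]
        simp [hx]
      · simp
    · refine ⟨(some (x.1 1 0 / x.1 0 0), ⟨(trv (some (x.1 1 0 / x.1 0 0)))⁻¹ * x, ?_⟩), ?_⟩
      · rw [mem_borel_iff, trv_inv_mul_10]
        field_simp
        simp
      · simp

/-- entries of a product of upper triangular matrices. -/
theorem borel_mul_00 (a b : Matrix.SpecialLinearGroup (Fin 2) F) 
    (hb : b.1 1 0 = 0) :
    ((a * b : Matrix.SpecialLinearGroup (Fin 2) F) : Matrix (Fin 2) (Fin 2) F) 0 0
      = a.1 0 0 * b.1 0 0 := by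
  rw [Matrix.SpecialLinearGroup.coe_mul]
  simp [Matrix.mul_apply, Fin.sum_univ_two, hb]

theorem borel_00_mul_11 (a : Matrix.SpecialLinearGroup (Fin 2) F) (ha : a.1 1 0 = 0) :
    a.1 0 0 * a.1 1 1 = 1 := by
  have := a.2
  rw [Matrix.det_fin_two, ha] at this
  simpa using this

theorem borel_inv_00 (a : Matrix.SpecialLinearGroup (Fin 2) F) :
    ((a⁻¹ : Matrix.SpecialLinearGroup (Fin 2) F) : Matrix (Fin 2) (Fin 2) F) 0 0 = a.1 1 1 := by
  rw [Matrix.SpecialLinearGroup.coe_inv]
  simp [Matrix.adjugate_fin_two]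

section formula
variable [Fintype F] [DecidableEq F]

/-- The explicit formula for the principal series function. -/
theorem principalSeries_formula (α : MulChar F ℂ) (g : Matrix.SpecialLinearGroup (Fin 2) F) :
    Cfsg.indFun ((Cfsg.upperTriangularGL 2 F).comap Matrix.SpecialLinearGroup.toGL)
      (fun b => α (((b : Matrix.SpecialLinearGroup (Fin 2) F) : Matrix (Fin 2) (Fin 2) F) 0 0)) g
    = (∑ c : F, if g.1 1 0 + (g.1 1 1 - g.1 0 0) * c - g.1 0 1 * c ^ 2 = 0
        then α (g.1 0 0 + g.1 0 1 * c) else 0)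
      + (if g.1 0 1 = 0 then α (g.1 1 1) else 0) := by
  rw [indFun_eq_sum_transversal _ trv trv_bijective]
  · rw [Fintype.sum_option, add_comm]
    congr 1
    · apply Finset.sum_congr rfl
      intro c _
      change extendByZero _ _ ((lowU c)⁻¹ * g * lowU c) = _
      split_ifs with h
      · rw [extendByZero_mem _ _ ((mem_borel_iff _).2 ((lowU_conj_10 g c).trans h))]
        simp only [lowU_conj_00]
      · rw [extendByZero_not_mem]
        rw [mem_borel_iff, lowU_conj_10]
        exact h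
    · change extendByZero _ _ ((weyl2)⁻¹ * g * weyl2) = _
      split_ifs with h
      · rw [extendByZero_mem _ _ ((mem_borel_iff _).2 ((weyl2_conj_10 g).trans (by rw [h, neg_zero])))]
        simp only [weyl2_conj_00]
      · rw [extendByZero_not_mem]
        rw [mem_borel_iff, weyl2_conj_10, neg_eq_zero]
        exact h
  · intro h k
    have hh := (mem_borel_iff _).1 h.2
    have hk := (mem_borel_iff _).1 k.2
    have hkh : ((k⁻¹ * h : ((Cfsg.upperTriangularGL 2 F).comap Matrix.SpecialLinearGroup.toGL)) : Matrix.SpecialLinearGroup (Fin 2) F).1 1 0 = 0 :=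
      (mem_borel_iff _).1 (k⁻¹ * h).2
    simp only [Subgroup.coe_mul, Subgroup.coe_inv]
    rw [borel_mul_00 _ _ hk, borel_mul_00 _ _ hh, borel_inv_00]
    congr 1
    have := borel_00_mul_11 _ hk
    linear_combination (h.1.1 0 0) * this

end formula

end Cfsg.Agent.Lib.Helper41
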