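import Cfsg.Agent.Lib.Helper41.SL2Quad
import Cfsg.Agent.Lib.Helper41.CharAux

/-!
# Classification of the irreducible characters of `SL₂(F)`, `q` odd
-/

set_option autoImplicit false
set_option linter.unusedSectionVars false

namespace Cfsg.Agent.Lib.Helper41

open Cfsg Cfsg.Agent.Lib.Helper15
open scoped ComplexConjugate

variable {F : Type*} [Field F] [Fintype F] [DecidableEq F]

/-- the trivial character -/
def one' : Matrix.SpecialLinearGroup (Fin 2) F → ℂ := fun _ => 1

theorem one'_irr : IsIrrCharacter (Matrix.SpecialLinearGroup (Fin 2) F) one' :=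
  Cfsg.Agent.Lib.Helper3.isIrrCharacter_one

theorem classInner_psR_one' (β : MulChar F ℂ) [Decidable (β = 1)] :
    classInner (psR β) one' = if β = 1 then 1 else 0 := by
  rw [psR_def, classInner_indFun_borel _ _ (irr_cf one'_irr)]
  simp only [one', map_one, mul_one, bor_00, Finset.sum_const, Finset.card_univ, nsmul_eq_mul]
  rw [← Finset.mul_sum, sum_units_mulChar_eq]
  have hq : (Fintype.card F : ℂ) ≠ 0 := cardF_ne_zero
  have hq1 : (Fintype.card F : ℂ) - 1 ≠ 0 := by
    rw [sub_ne_zero]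
    exact_mod_cast (Fintype.one_lt_card (α := F)).ne'
  split_ifs
  · field_simp
  · simp

theorem psR_irr (β : MulChar F ℂ) (hβ : β ≠ β⁻¹) :
    IsIrrCharacter (Matrix.SpecialLinearGroup (Fin 2) F) (psR β) := by
  classical
  rw [isIrr_iff]
  refine ⟨psR_isCharacter β, ?_⟩
  rw [classInner_psR, if_pos rfl, if_neg hβ, add_zero]

theorem psR_norm_two (β : MulChar F ℂ) (hβ : β = β⁻¹) : classInner (psR β) (psR β) = 2 := by
  classical
  rw [classInner_psR, if_pos rfl, if_pos hβ]
  norm_num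

/-- the Steinberg character -/
noncomputable def St : Matrix.SpecialLinearGroup (Fin 2) F → ℂ := psR 1 - one'

theorem St_def : (St : Matrix.SpecialLinearGroup (Fin 2) F → ℂ) = psR 1 - one' := rfl

theorem St_package : IsIrrCharacter (Matrix.SpecialLinearGroup (Fin 2) F) St ∧
    classInner (St : Matrix.SpecialLinearGroup (Fin 2) F → ℂ) one' = 0 := by
  classical
  have h := norm_two_constituent (psR_isCharacter (1 : MulChar F ℂ)) (psR_norm_two 1 (by simp))
    one'_irr (by rw [classInner_psR_one', if_pos rfl]; exact one_ne_zero)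
  exact ⟨h.2.1, h.2.2⟩

theorem St_irr : IsIrrCharacter (Matrix.SpecialLinearGroup (Fin 2) F) St := St_package.1

theorem psR_one_eq : psR (1 : MulChar F ℂ) = one' + St := by
  rw [St_def]; ring

theorem psR_one_apply_one (β : MulChar F ℂ) : psR β 1 = (Fintype.card F : ℂ) + 1 := by
  rw [← bor_one_zero, psR_bor]
  simp

theorem St_one : (St : Matrix.SpecialLinearGroup (Fin 2) F → ℂ) 1 = (Fintype.card F : ℂ) := by
  rw [St_def, Pi.sub_apply, psR_one_apply_one, one']
  ring

/-- constituents of `R(1)` -/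
theorem eq_one'_or_St {χ : Matrix.SpecialLinearGroup (Fin 2) F → ℂ}
    (hχ : IsIrrCharacter (Matrix.SpecialLinearGroup (Fin 2) F) χ)
    (h : classInner one' χ ≠ 0 ∨ classInner St χ ≠ 0) : χ = one' ∨ χ = St := by
  rcases h with h | h
  · left; exact (irr_eq_of_inner_ne_zero one'_irr hχ h).symm
  · right; exact (irr_eq_of_inner_ne_zero St_irr hχ h).symm

namespace NSGen

variable (T : NSGen F)

section odd
variable (hodd : Fintype.card F % 2 = 1)
include hodd

theorem classInner_X_X (θ θ' : T.C →* ℂˣ) [Decidable (θ = θ')] [Decidable (θ = θ'⁻¹)] :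
    classInner (T.X hodd θ) (T.X hodd θ') = (if θ = θ' then 1 else 0) + (if θ = θ'⁻¹ then 1 else 0) :=
  T.classInner_dsX_dsX hodd _ _ θ θ' (T.alphaOf_spec hodd θ) (T.alphaOf_spec hodd θ')

theorem classInner_X_psR (θ : T.C →* ℂˣ) (β : MulChar F ℂ) :
    classInner (T.X hodd θ) (psR β) = 0 :=
  T.classInner_dsX_psR hodd _ β θ (T.alphaOf_spec hodd θ)

theorem classInner_X_one' (θ : T.C →* ℂˣ) [Decidable (θ = 1)] :
    classInner (T.X hodd θ) one' = if θ = 1 then -1 else 0 :=
  T.classInner_dsX_one hodd _ θ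

theorem X_irr (θ : T.C →* ℂˣ) (hθ : θ ≠ θ⁻¹) :
    IsIrrCharacter (Matrix.SpecialLinearGroup (Fin 2) F) (T.X hodd θ) :=
  T.dsX_irr hodd _ θ (T.alphaOf_spec hodd θ) hθ

theorem X_isGen (θ : T.C →* ℂˣ) :
    IsGeneralizedCharacter (Matrix.SpecialLinearGroup (Fin 2) F) (T.X hodd θ) :=
  T.dsX_isGen _ θ

theorem X_cf (θ : T.C →* ℂˣ) :
    IsClassFunction (Matrix.SpecialLinearGroup (Fin 2) F) (T.X hodd θ) :=
  T.dsX_cf _ θ

theorem X_one (θ : T.C →* ℂˣ) : T.X hodd θ 1 = (Fintype.card F : ℂ) - 1 := T.dsX_one _ θ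

theorem X_neg (θ : T.C →* ℂˣ) (g : Matrix.SpecialLinearGroup (Fin 2) F) :
    T.X hodd θ (-1 * g) = ((θ (T.negC hodd) : ℂˣ) : ℂ) * T.X hodd θ g :=
  T.dsX_neg hodd _ θ (T.alphaOf_spec hodd θ) g

theorem X_norm_two (θ : T.C →* ℂˣ) (hθ : θ = θ⁻¹) :
    classInner (T.X hodd θ) (T.X hodd θ) = 2 := by
  classical
  rw [classInner_X_X, if_pos rfl, if_pos hθ]
  norm_num

theorem classInner_X_St (θ : T.C →* ℂˣ) [Decidable (θ = 1)] :
    classInner (T.X hodd θ) St = if θ = 1 then 1 else 0 := by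
  rw [St_def, classInner_sub_right, classInner_X_psR, classInner_X_one']
  split_ifs <;> simp

/-- `X(1) = St - 1`. -/
theorem X_one_eq : T.X hodd 1 = St - one' := by
  classical
  rw [← sub_eq_zero]
  apply classInner_self_eq_zero
  have h1 : classInner (T.X hodd 1) (T.X hodd 1) = 2 := T.X_norm_two hodd 1 (by ext c; simp)
  have h2 : classInner (T.X hodd 1) St = 1 := by rw [classInner_X_St, if_pos rfl]
  have h3 : classInner (T.X hodd 1) one' = -1 := by rw [classInner_X_one', if_pos rfl]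
  have h2' : classInner St (T.X hodd 1) = 1 := by
    rw [← classInner_conj_symm, h2, map_one]
  have h3' : classInner one' (T.X hodd 1) = -1 := by
    rw [← classInner_conj_symm, h3, map_neg, map_one]
  have h4 : classInner (St : Matrix.SpecialLinearGroup (Fin 2) F → ℂ) one' = 0 := St_package.2
  have h4' : classInner one' (St : Matrix.SpecialLinearGroup (Fin 2) F → ℂ) = 0 := by
    rw [← classInner_conj_symm, h4, map_zero]
  simp only [classInner_sub_left, classInner_sub_right, h1, h2, h3, h2', h3', h4, h4',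
    irr_inner_self St_irr, irr_inner_self one'_irr]
  norm_num

/-- sign of an irreducible character -/
theorem sign_of_irr {χ : Matrix.SpecialLinearGroup (Fin 2) F → ℂ}
    (hχ : IsIrrCharacter (Matrix.SpecialLinearGroup (Fin 2) F) χ) :
    ∃ e : ℂ, (e = 1 ∨ e = -1) ∧ ∀ g, χ (-1 * g) = e * χ g :=
  irr_sign hχ (-1) neg_one_mem_center (by simp)

/-- A constituent of `R(β)`, `β` quadratic, is orthogonal to `X(θ)`, `θ` quadratic. -/
theorem quad_orth {χ : Matrix.SpecialLinearGroup (Fin 2) F → ℂ}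
    (hχ : IsIrrCharacter (Matrix.SpecialLinearGroup (Fin 2) F) χ)
    (β : MulChar F ℂ) (hβ : β = β⁻¹) (hβ1 : β ≠ 1) (θ : T.C →* ℂˣ) (hθ : θ = θ⁻¹) (hθ1 : θ ≠ 1)
    (h : classInner (psR β) χ ≠ 0) : classInner (T.X hodd θ) χ = 0 := by
  obtain ⟨e, he, hsign⟩ := sign_of_irr hodd hχ
  have hs := T.quad_sign hodd β hβ hβ1 θ hθ hθ1
  have heβ : e = β (-1) := by
    by_contra hne
    apply h
    apply classInner_eq_zero_of_parity (-1) (psR_neg β) hsign
    rcases he with rfl | rfl <;> rcases mulChar_neg_one β with h1 | h1 <;> rw [h1] at hne ⊢ <;>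
      simp at hne ⊢
  apply classInner_eq_zero_of_parity (-1) (T.X_neg hodd θ) hsign
  rw [heβ, conj_mulChar_neg_one, mul_comm]
  exact hs

end odd

end NSGen

end Cfsg.Agent.Lib.Helper41
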