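import Cfsg.Agent.Lib.Helper41.DSeriesX

/-!
# Fourier inversion formulas on the tori of `SL₂(F)` and the multiplicity formula
-/

set_option autoImplicit false
set_option linter.unusedSectionVars false

namespace Cfsg.Agent.Lib.Helper41

open Cfsg Cfsg.Agent.Lib.Helper15
open scoped ComplexConjugate
open scoped IsMulCommutative

theorem sum_monoidHom_apply {H : Type*} [CommGroup H] [Finite H] [Fintype (H →* ℂˣ)]
    [DecidableEq H] (c : H) :
    ∑ θ : H →* ℂˣ, ((θ c : ℂˣ) : ℂ) = if c = 1 then (Nat.card H : ℂ) else 0 := by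
  split_ifs with hc
  · subst hc
    simp only [map_one, Units.val_one, Finset.sum_const, Finset.card_univ, nsmul_eq_mul, mul_one]
    rw [← Nat.card_eq_fintype_card, CommGroup.card_monoidHom_of_hasEnoughRootsOfUnity]
  · obtain ⟨φ, hφ⟩ := CommGroup.exists_apply_ne_one_of_hasEnoughRootsOfUnity H ℂ hc
    have hφ' : ((φ c : ℂˣ) : ℂ) ≠ 1 := by
      intro h
      exact hφ (Units.ext h)
    refine eq_zero_of_mul_eq_self_left hφ' ?_
    rw [Finset.mul_sum]
    exact Fintype.sum_bijective _ (Group.mulLeft_bijective φ) _ _ (fun θ => by simp)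

variable {F : Type*} [Field F] [Fintype F] [DecidableEq F]

theorem sum_mulChar_apply [Fintype (MulChar F ℂ)] (a : Fˣ) :
    ∑ α : MulChar F ℂ, α (a : F) = if a = 1 then ((Fintype.card F : ℂ) - 1) else 0 := by
  split_ifs with ha
  · subst ha
    simp only [Units.val_one, map_one, Finset.sum_const, Finset.card_univ, nsmul_eq_mul, mul_one]
    rw [← Nat.card_eq_fintype_card, MulChar.card_eq_card_units_of_hasEnoughRootsOfUnity,
      Nat.card_eq_fintype_card, Fintype.card_units, Nat.cast_sub Fintype.card_pos]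
    simp
  · have ha' : (a : F) ≠ 1 := by
      intro h
      exact ha (Units.ext h)
    obtain ⟨χ, hχ⟩ := MulChar.exists_apply_ne_one_of_hasEnoughRootsOfUnity F ℂ ha'
    refine eq_zero_of_mul_eq_self_left hχ ?_
    simp only [Finset.mul_sum, ← MulChar.mul_apply]
    exact Fintype.sum_bijective _ (Group.mulLeft_bijective χ) _ _ fun χ' ↦ rfl

theorem conj_mulChar_unit (β : MulChar F ℂ) (r : Fˣ) : conj (β (r : F)) = β ((r⁻¹ : Fˣ) : F) := by
  rw [starRingEnd_apply, MulChar.star_apply', MulChar.inv_apply', Units.val_inv_eq_inv_val]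

/-- Fourier inversion along the diagonal of the Borel subgroup. -/
theorem sum_conj_mul_classInner [Fintype (MulChar F ℂ)]
    (κ f : Matrix.SpecialLinearGroup (Fin 2) F → ℂ)
    (hκ : IsClassFunction (Matrix.SpecialLinearGroup (Fin 2) F) κ)
    (hf : IsClassFunction (Matrix.SpecialLinearGroup (Fin 2) F) f) (r₀ : Fˣ) :
    ∑ β : MulChar F ℂ, conj (β (r₀ : F)) * classInner (psR β * κ) f
      = (Fintype.card F : ℂ)⁻¹ * ∑ s : F, κ (bor r₀ s) * conj (f (bor r₀ s)) := by
  have h1 : ∀ β : MulChar F ℂ, classInner (psR β * κ) f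
      = (((Fintype.card F : ℂ) - 1) * Fintype.card F)⁻¹ *
      ∑ r : Fˣ, ∑ s : F, β (r : F) * (κ (bor r s) * conj (f (bor r s))) := by
    intro β
    rw [psR_def, ← indFun_mul_restrict _ _ hκ, classInner_indFun_borel _ _ hf]
    congr 1
    apply Finset.sum_congr rfl
    intro r _
    apply Finset.sum_congr rfl
    intro s _
    simp only [Pi.mul_apply, bor_00]
    ring
  simp_rw [h1]
  have h2 : ∀ β : MulChar F ℂ, conj (β (r₀ : F)) * ((((Fintype.card F : ℂ) - 1) * Fintype.card F)⁻¹ *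
      ∑ r : Fˣ, ∑ s : F, β (r : F) * (κ (bor r s) * conj (f (bor r s))))
      = (((Fintype.card F : ℂ) - 1) * Fintype.card F)⁻¹ *
      ∑ r : Fˣ, β ((r * r₀⁻¹ : Fˣ) : F) * ∑ s : F, (κ (bor r s) * conj (f (bor r s))) := by
    intro β
    rw [mul_left_comm, Finset.mul_sum]
    congr 1
    apply Finset.sum_congr rfl
    intro r _
    rw [← Finset.mul_sum, conj_mulChar_unit, Units.val_mul, map_mul]
    ring
  simp_rw [h2]
  rw [← Finset.mul_sum, Finset.sum_comm]
  simp_rw [← Finset.sum_mul, sum_mulChar_apply]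
  rw [Finset.sum_eq_single r₀]
  · rw [if_pos (mul_inv_cancel r₀)]
    have hq : (Fintype.card F : ℂ) ≠ 0 := cardF_ne_zero
    have hq1 : (Fintype.card F : ℂ) - 1 ≠ 0 := by
      rw [sub_ne_zero]
      exact_mod_cast (Fintype.one_lt_card (α := F)).ne'
    field_simp
  · intro r _ hr
    rw [if_neg, zero_mul]
    intro h
    exact hr (mul_inv_eq_one.1 h)
  · intro h
    exact absurd (Finset.mem_univ _) h

theorem isClassFunction_one' : IsClassFunction (Matrix.SpecialLinearGroup (Fin 2) F)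
    (1 : Matrix.SpecialLinearGroup (Fin 2) F → ℂ) := fun _ _ => rfl

/-- `∑_β conj β(r) ⟨R(β), f⟩ = q⁻¹ ∑_s conj f(bor r s)`. -/
theorem sum_conj_mul_classInner_psR [Fintype (MulChar F ℂ)]
    (f : Matrix.SpecialLinearGroup (Fin 2) F → ℂ)
    (hf : IsClassFunction (Matrix.SpecialLinearGroup (Fin 2) F) f) (r₀ : Fˣ) :
    ∑ β : MulChar F ℂ, conj (β (r₀ : F)) * classInner (psR β) f
      = (Fintype.card F : ℂ)⁻¹ * ∑ s : F, conj (f (bor r₀ s)) := by
  have := sum_conj_mul_classInner 1 f isClassFunction_one' hf r₀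
  simpa using this

theorem sum_classInner_psR [Fintype (MulChar F ℂ)]
    (f : Matrix.SpecialLinearGroup (Fin 2) F → ℂ)
    (hf : IsClassFunction (Matrix.SpecialLinearGroup (Fin 2) F) f) :
    ∑ β : MulChar F ℂ, classInner (psR β) f
      = (Fintype.card F : ℂ)⁻¹ * ∑ s : F, conj (f (bor 1 s)) := by
  have := sum_conj_mul_classInner_psR f hf 1
  simpa using this

theorem sum_classInner_psY [Fintype (MulChar F ℂ)]
    (f : Matrix.SpecialLinearGroup (Fin 2) F → ℂ)
    (hf : IsClassFunction (Matrix.SpecialLinearGroup (Fin 2) F) f) :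
    ∑ β : MulChar F ℂ, classInner (psY β) f
      = conj (f 1) - ∑ β : MulChar F ℂ, classInner (psR β) f := by
  have h := sum_conj_mul_classInner (fun g => psR (1 : MulChar F ℂ) g - 2) f psR_one_sub_two_cf hf 1
  rw [sum_classInner_psR f hf]
  have h1 : ∀ β : MulChar F ℂ, psR β * (fun g => psR (1 : MulChar F ℂ) g - 2) = psY β := fun β => rfl
  simp only [Units.val_one, map_one, one_mul, h1, psR_one_bor, one_pow, if_true] at h
  rw [h, ← Finset.add_sum_erase _ _ (Finset.mem_univ (0 : F)),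
    ← Finset.add_sum_erase _ (fun s => conj (f (bor 1 s))) (Finset.mem_univ (0 : F)), if_pos rfl,
    bor_one_zero]
  have h3 : ∀ s ∈ Finset.univ.erase (0 : F), (if s = 0 then ((Fintype.card F : ℂ) - 1) else -1) *
      conj (f (bor 1 s)) = - conj (f (bor 1 s)) := by
    intro s hs
    rw [if_neg (Finset.mem_erase.1 hs).1]
    ring
  rw [Finset.sum_congr rfl h3, Finset.sum_neg_distrib]
  have hq : (Fintype.card F : ℂ) ≠ 0 := cardF_ne_zero
  field_simp
  ring

/-- `Y(α)` only depends on `α(-1)`. -/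
theorem psY_congr (h2 : (2 : F) ≠ 0) (α α' : MulChar F ℂ) (h : α (-1) = α' (-1)) :
    psY α = psY α' := by
  rw [← sub_eq_zero]
  apply classInner_self_eq_zero
  rw [classInner_sub_left, classInner_sub_right, classInner_sub_right, classInner_psY_psY h2,
    classInner_psY_psY h2, classInner_psY_psY h2, classInner_psY_psY h2, h]
  ring

namespace NSGen

variable (T : NSGen F)

instance instComm : IsMulCommutative T.C := by unfold NSGen.C; infer_instance

instance instFiniteHom : Finite (T.C →* ℂˣ) :=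
  Finite.of_equiv _ (CommGroup.monoidHom_mulEquiv_of_hasEnoughRootsOfUnity T.C ℂ).some.toEquiv.symm

theorem sum_theta_apply [Fintype (T.C →* ℂˣ)] (c : T.C) :
    ∑ θ : T.C →* ℂˣ, ((θ c : ℂˣ) : ℂ) = if c = 1 then ((Fintype.card F : ℂ) + 1) else 0 := by
  classical
  rw [sum_monoidHom_apply c, T.card_C]
  push_cast
  rfl

/-- Fourier inversion on the non-split torus. -/
theorem sum_conj_mul_classInner_nsI [Fintype (T.C →* ℂˣ)]
    (f : Matrix.SpecialLinearGroup (Fin 2) F → ℂ)
    (hf : IsClassFunction (Matrix.SpecialLinearGroup (Fin 2) F) f) (c : T.C) :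
    ∑ θ : T.C →* ℂˣ, conj ((θ c : ℂˣ) : ℂ) * classInner (T.nsI θ) f = conj (f c) := by
  classical
  have : Fintype T.C := Fintype.ofFinite _
  simp_rw [T.classInner_nsI _ f hf]
  have h2 : ∀ θ : T.C →* ℂˣ, conj ((θ c : ℂˣ) : ℂ) * (((Fintype.card F : ℂ) + 1)⁻¹ *
      ∑ c' : T.C, ((θ c' : ℂˣ) : ℂ) * conj (f c'))
      = ((Fintype.card F : ℂ) + 1)⁻¹ * ∑ c' : T.C, ((θ (c' * c⁻¹) : ℂˣ) : ℂ) * conj (f c') := by
    intro θ
    rw [mul_left_comm, Finset.mul_sum]
    congr 1
    apply Finset.sum_congr rfl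
    intro c' _
    rw [T.conj_theta, map_mul, Units.val_mul]
    ring
  simp_rw [h2]
  rw [← Finset.mul_sum, Finset.sum_comm]
  simp_rw [← Finset.sum_mul, T.sum_theta_apply]
  rw [Finset.sum_eq_single c]
  · rw [if_pos (mul_inv_cancel c)]
    have hq1 : (Fintype.card F : ℂ) + 1 ≠ 0 := by exact_mod_cast Nat.succ_ne_zero (Fintype.card F)
    field_simp
  · intro r _ hr
    rw [if_neg, zero_mul]
    intro h
    exact hr (mul_inv_eq_one.1 h)
  · intro h
    exact absurd (Finset.mem_univ _) h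

end NSGen

end Cfsg.Agent.Lib.Helper41
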