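import Cfsg.Agent.Lib.Helper41.SL2Fourier

/-!
# The discrete series `X(θ)`, the multiplicity formula and the values on the non-split torus
-/

set_option autoImplicit false
set_option linter.unusedSectionVars false

namespace Cfsg.Agent.Lib.Helper41

open Cfsg Cfsg.Agent.Lib.Helper15
open scoped ComplexConjugate
open scoped IsMulCommutative

variable {F : Type*} [Field F] [Fintype F] [DecidableEq F]

theorem one_mulChar_neg_one : (1 : MulChar F ℂ) (-1) = 1 := MulChar.one_apply (isUnit_one.neg)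

/-- decomposition of `Y(α)` according to the sign `α(-1)`. -/
theorem psY_decomp (h2 : (2 : F) ≠ 0) (αm : MulChar F ℂ) (hm : αm (-1) = -1) (α : MulChar F ℂ) :
    psY α = ((1 + α (-1)) / 2) • psY (1 : MulChar F ℂ) + ((1 - α (-1)) / 2) • psY αm := by
  rcases mulChar_neg_one α with h | h
  · rw [h, psY_congr h2 α 1 (by rw [h, one_mulChar_neg_one])]
    norm_num
  · rw [h, psY_congr h2 α αm (by rw [h, hm])]
    norm_num

namespace NSGen

variable (T : NSGen F)

section odd
variable (hodd : Fintype.card F % 2 = 1)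
include hodd

/-- a multiplicative character with the same central sign as `θ` -/
noncomputable def alphaOf (θ : T.C →* ℂˣ) : MulChar F ℂ :=
  (exists_mulChar_neg_one (two_ne_zero_of_odd_card hodd) _ (T.theta_neg hodd θ)).choose

theorem alphaOf_spec (θ : T.C →* ℂˣ) :
    T.alphaOf hodd θ (-1) = ((θ (T.negC hodd) : ℂˣ) : ℂ) :=
  (exists_mulChar_neg_one (two_ne_zero_of_odd_card hodd) _ (T.theta_neg hodd θ)).choose_spec

/-- the discrete series virtual character attached to `θ` -/
noncomputable def X (θ : T.C →* ℂˣ) : Matrix.SpecialLinearGroup (Fin 2) F → ℂ :=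
  T.dsX (T.alphaOf hodd θ) θ

theorem X_def (θ : T.C →* ℂˣ) : T.X hodd θ = T.dsX (T.alphaOf hodd θ) θ := rfl

theorem X_eq_dsX (α : MulChar F ℂ) (θ : T.C →* ℂˣ) (h : α (-1) = ((θ (T.negC hodd) : ℂˣ) : ℂ)) :
    T.dsX α θ = T.X hodd θ := by
  rw [X_def, dsX_def, dsX_def, psY_congr (two_ne_zero_of_odd_card hodd) α (T.alphaOf hodd θ)
    (by rw [h, alphaOf_spec])]

theorem sum_conj_theta [Fintype (T.C →* ℂˣ)] (c : T.C) :
    ∑ θ : T.C →* ℂˣ, conj ((θ c : ℂˣ) : ℂ) = if c = 1 then ((Fintype.card F : ℂ) + 1) else 0 := by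
  simp_rw [T.conj_theta]
  rw [T.sum_theta_apply]
  simp only [inv_eq_one]

theorem sum_conj_theta_mul_neg [Fintype (T.C →* ℂˣ)] (c : T.C) :
    ∑ θ : T.C →* ℂˣ, conj ((θ c : ℂˣ) : ℂ) * ((θ (T.negC hodd) : ℂˣ) : ℂ)
      = if c = T.negC hodd then ((Fintype.card F : ℂ) + 1) else 0 := by
  have : ∀ θ : T.C →* ℂˣ, conj ((θ c : ℂˣ) : ℂ) * ((θ (T.negC hodd) : ℂˣ) : ℂ)
      = ((θ (c⁻¹ * T.negC hodd) : ℂˣ) : ℂ) := by
    intro θ
    rw [T.conj_theta, map_mul, Units.val_mul]
  simp_rw [this]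
  rw [T.sum_theta_apply]
  have : c⁻¹ * T.negC hodd = 1 ↔ c = T.negC hodd := by
    rw [inv_mul_eq_one]
  simp only [this]

theorem sum_conj_mul_classInner_psY [Fintype (T.C →* ℂˣ)] (αm : MulChar F ℂ) (hm : αm (-1) = -1)
    (f : Matrix.SpecialLinearGroup (Fin 2) F → ℂ) (c : T.C) :
    ∑ θ : T.C →* ℂˣ, conj ((θ c : ℂˣ) : ℂ) * classInner (psY (T.alphaOf hodd θ)) f
      = ((Fintype.card F : ℂ) + 1) / 2 *
        ((classInner (psY 1) f + classInner (psY αm) f) * (if c = 1 then 1 else 0)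
        + (classInner (psY 1) f - classInner (psY αm) f) * (if c = T.negC hodd then 1 else 0)) := by
  have h2 : (2 : F) ≠ 0 := two_ne_zero_of_odd_card hodd
  have h1 : ∀ θ : T.C →* ℂˣ, conj ((θ c : ℂˣ) : ℂ) * classInner (psY (T.alphaOf hodd θ)) f
      = (classInner (psY 1) f + classInner (psY αm) f) / 2 * conj ((θ c : ℂˣ) : ℂ)
        + (classInner (psY 1) f - classInner (psY αm) f) / 2 *
          (conj ((θ c : ℂˣ) : ℂ) * ((θ (T.negC hodd) : ℂˣ) : ℂ)) := by
    intro θ
    rw [psY_decomp h2 αm hm (T.alphaOf hodd θ), classInner_add_left, classInner_smul_left,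
      classInner_smul_left, alphaOf_spec]
    ring
  simp_rw [h1]
  rw [Finset.sum_add_distrib, ← Finset.mul_sum, ← Finset.mul_sum, T.sum_conj_theta hodd,
    T.sum_conj_theta_mul_neg hodd]
  split_ifs <;> ring

omit hodd in
theorem sum_classInner_psY_decomp [Fintype (MulChar F ℂ)] (h2 : (2 : F) ≠ 0)
    (αm : MulChar F ℂ) (hm : αm (-1) = -1) (f : Matrix.SpecialLinearGroup (Fin 2) F → ℂ) :
    ∑ β : MulChar F ℂ, classInner (psY β) f
      = ((Fintype.card F : ℂ) - 1) / 2 * (classInner (psY 1) f + classInner (psY αm) f) := by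
  have h1 : ∀ β : MulChar F ℂ, classInner (psY β) f
      = (classInner (psY 1) f + classInner (psY αm) f) / 2
        + (classInner (psY 1) f - classInner (psY αm) f) / 2 * β ((-1 : Fˣ) : F) := by
    intro β
    rw [psY_decomp h2 αm hm β, classInner_add_left, classInner_smul_left, classInner_smul_left]
    simp only [Units.val_neg, Units.val_one]
    ring
  rw [Finset.sum_congr rfl (fun β _ => h1 β)]
  rw [Finset.sum_add_distrib, ← Finset.mul_sum, sum_mulChar_apply, if_neg, Finset.sum_const,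
    Finset.card_univ, ← Nat.card_eq_fintype_card,
    MulChar.card_eq_card_units_of_hasEnoughRootsOfUnity, Nat.card_eq_fintype_card,
    Fintype.card_units, nsmul_eq_mul, Nat.cast_sub Fintype.card_pos]
  · push_cast
    ring
  · intro h
    have := congrArg Units.val h
    simp at this
    apply h2
    linear_combination -this

/-- values on the non-split torus in terms of the multiplicities of the `X(θ)`. -/
theorem sum_conj_mul_classInner_X [Fintype (T.C →* ℂˣ)]
    (f : Matrix.SpecialLinearGroup (Fin 2) F → ℂ)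
    (hf : IsClassFunction (Matrix.SpecialLinearGroup (Fin 2) F) f) (c : T.C)
    (hc : (c : Matrix.SpecialLinearGroup (Fin 2) F) ∉ Subgroup.center _) :
    ∑ θ : T.C →* ℂˣ, conj ((θ c : ℂˣ) : ℂ) * classInner (T.X hodd θ) f = - conj (f c) := by
  obtain ⟨αm, hm⟩ := exists_mulChar_neg_one (two_ne_zero_of_odd_card hodd) (-1) (Or.inr rfl)
  have h1 : ∀ θ : T.C →* ℂˣ, conj ((θ c : ℂˣ) : ℂ) * classInner (T.X hodd θ) f
      = conj ((θ c : ℂˣ) : ℂ) * classInner (psY (T.alphaOf hodd θ)) f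
        - conj ((θ c : ℂˣ) : ℂ) * classInner (T.nsI θ) f := by
    intro θ
    rw [X_def, dsX_def, classInner_sub_left]
    ring
  simp_rw [h1]
  rw [Finset.sum_sub_distrib, T.sum_conj_mul_classInner_psY hodd αm hm,
    T.sum_conj_mul_classInner_nsI f hf]
  rw [T.mem_center_iff hodd] at hc
  push Not at hc
  rw [if_neg hc.1, if_neg hc.2]
  ring

/-- The multiplicity formula. -/
theorem multiplicity_formula [Fintype (T.C →* ℂˣ)] [Fintype (MulChar F ℂ)]
    (f : Matrix.SpecialLinearGroup (Fin 2) F → ℂ)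
    (hf : IsClassFunction (Matrix.SpecialLinearGroup (Fin 2) F) f) :
    ((Fintype.card F : ℂ) - 1) / 2 * ∑ θ : T.C →* ℂˣ, classInner (T.X hodd θ) f
      + ((Fintype.card F : ℂ) + 1) / 2 * ∑ β : MulChar F ℂ, classInner (psR β) f = conj (f 1) := by
  have h2 : (2 : F) ≠ 0 := two_ne_zero_of_odd_card hodd
  obtain ⟨αm, hm⟩ := exists_mulChar_neg_one h2 (-1) (Or.inr rfl)
  have h1 : ∀ θ : T.C →* ℂˣ, classInner (T.X hodd θ) f
      = conj ((θ (1 : T.C) : ℂˣ) : ℂ) * classInner (psY (T.alphaOf hodd θ)) f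
        - conj ((θ (1 : T.C) : ℂˣ) : ℂ) * classInner (T.nsI θ) f := by
    intro θ
    rw [X_def, dsX_def, classInner_sub_left]
    simp
  simp_rw [h1]
  rw [Finset.sum_sub_distrib, T.sum_conj_mul_classInner_psY hodd αm hm,
    T.sum_conj_mul_classInner_nsI f hf, if_pos rfl, if_neg (T.negC_ne_one hodd).symm]
  have h3 := sum_classInner_psY f hf
  rw [sum_classInner_psY_decomp h2 αm hm] at h3
  rw [Subgroup.coe_one]
  have hq1 : (Fintype.card F : ℂ) - 1 ≠ 0 := by
    rw [sub_ne_zero]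
    exact_mod_cast (Fintype.one_lt_card (α := F)).ne'
  linear_combination (((Fintype.card F : ℂ) + 1) / 2) * h3

end odd

end NSGen

end Cfsg.Agent.Lib.Helper41
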