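import Cfsg.Agent.Lib.Helper41.SL2Classify

/-!
# Profiles of the irreducible characters of `SL₂(F)`, `q` odd
-/

set_option autoImplicit false
set_option linter.unusedSectionVars false

namespace Cfsg.Agent.Lib.Helper41

open Cfsg Cfsg.Agent.Lib.Helper15
open scoped ComplexConjugate

variable {F : Type*} [Field F] [Fintype F] [DecidableEq F]

namespace NSGen

variable (T : NSGen F)

section odd
variable (hodd : Fintype.card F % 2 = 1)
include hodd

open Classical in
/-- profile of a constituent of `R(β)`, `β` quadratic -/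
theorem profile_halfP {χ : Matrix.SpecialLinearGroup (Fin 2) F → ℂ}
    (hχ : IsIrrCharacter (Matrix.SpecialLinearGroup (Fin 2) F) χ)
    (β : MulChar F ℂ) (hβ : β = β⁻¹) (hβ1 : β ≠ 1) (h : classInner (psR β) χ ≠ 0) :
    (∀ β' : MulChar F ℂ, classInner (psR β') χ = if β' = β then 1 else 0) ∧
    (∀ θ : T.C →* ℂˣ, classInner (T.X hodd θ) χ = 0) := by
  have hcomm : classInner χ (psR β) = classInner (psR β) χ :=
    inner_comm_of_char (irr_char hχ) (psR_isCharacter β)
  constructor
  · intro β'
    split_ifs with hb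
    · rw [hb]
      exact (norm_two_constituent (psR_isCharacter β) (psR_norm_two β hβ) hχ h).1
    · apply inner_zero_of_constituent (psR_isCharacter β') (psR_isCharacter β) _ hχ h
      rw [classInner_psR, if_neg hb, if_neg (by rw [← hβ]; exact hb), add_zero]
  · intro θ
    by_cases hθ : θ = θ⁻¹
    · by_cases hθ1 : θ = 1
      · rw [hθ1, T.X_one_eq hodd, St_def, classInner_sub_left, classInner_sub_left]
        have h1 : classInner (psR 1) χ = 0 := by
          apply inner_zero_of_constituent (psR_isCharacter 1) (psR_isCharacter β) _ hχ h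
          rw [classInner_psR, if_neg (Ne.symm hβ1), if_neg (by rw [← hβ]; exact Ne.symm hβ1),
            add_zero]
        have h2 : classInner one' χ = 0 := by
          apply inner_zero_of_constituent (irr_char one'_irr) (psR_isCharacter β) _ hχ h
          rw [← classInner_conj_symm, classInner_psR_one', if_neg hβ1, map_zero]
        rw [h1, h2]
        ring
      · exact T.quad_orth hodd hχ β hβ hβ1 θ hθ hθ1 h
    · by_contra hne
      have heq := irr_eq_of_inner_ne_zero (T.X_irr hodd θ hθ) hχ hne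
      apply h
      rw [← hcomm, ← heq, classInner_X_psR]

open Classical in
/-- a constituent of `X(θ)`, `θ` quadratic, is not in the principal series -/
theorem halfD_psR {χ : Matrix.SpecialLinearGroup (Fin 2) F → ℂ}
    (hχ : IsIrrCharacter (Matrix.SpecialLinearGroup (Fin 2) F) χ)
    (θ : T.C →* ℂˣ) (hθ : θ = θ⁻¹) (hθ1 : θ ≠ 1) (h : classInner (T.X hodd θ) χ ≠ 0)
    (β : MulChar F ℂ) : classInner (psR β) χ = 0 := by
  by_contra hne
  apply h
  by_cases hβ : β = β⁻¹
  · by_cases hβ1 : β = 1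
    · rw [hβ1, psR_one_eq, classInner_add_left] at hne
      have : classInner one' χ ≠ 0 ∨ classInner St χ ≠ 0 := by
        by_contra hcon
        push Not at hcon
        apply hne
        rw [hcon.1, hcon.2, add_zero]
      rcases eq_one'_or_St hχ this with h1 | h1
      · rw [h1, classInner_X_one', if_neg hθ1]
      · rw [h1, classInner_X_St, if_neg hθ1]
    · exact T.quad_orth hodd hχ β hβ hβ1 θ hθ hθ1 hne
  · have heq := irr_eq_of_inner_ne_zero (psR_irr β hβ) hχ hne
    rw [← heq, classInner_X_psR]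

open Classical in
theorem halfD_X {χ : Matrix.SpecialLinearGroup (Fin 2) F → ℂ}
    (hχ : IsIrrCharacter (Matrix.SpecialLinearGroup (Fin 2) F) χ)
    (θ : T.C →* ℂˣ) (hθ : θ = θ⁻¹) (hθ1 : θ ≠ 1) (h : classInner (T.X hodd θ) χ ≠ 0)
    (θ' : T.C →* ℂˣ) (hne : θ' ≠ θ) : classInner (T.X hodd θ') χ = 0 := by
  by_cases hθ' : θ' = θ'⁻¹
  · by_cases hθ'1 : θ' = 1
    · rw [hθ'1, T.X_one_eq hodd, St_def, classInner_sub_left, classInner_sub_left,
        T.halfD_psR hodd hχ θ hθ hθ1 h 1]
      have h2 : classInner one' χ = 0 := by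
        by_contra hcon
        have heq := irr_eq_of_inner_ne_zero one'_irr hχ hcon
        apply h
        rw [← heq, classInner_X_one', if_neg hθ1]
      rw [h2]
      ring
    · exact absurd (T.theta_quad_unique θ' θ hθ' hθ'1 hθ hθ1) hne
  · by_contra hcon
    have heq := irr_eq_of_inner_ne_zero (T.X_irr hodd θ' hθ') hχ hcon
    apply h
    rw [← heq, classInner_X_X, if_neg (Ne.symm hne), if_neg, add_zero]
    intro h3
    apply hne
    have : θ'⁻¹⁻¹ = θ⁻¹ := by rw [← h3]
    rw [← hθ] at this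
    rw [← this]
    ext c
    simp

open Classical in
/-- profile of a constituent of `X(θ)`, `θ` quadratic -/
theorem profile_halfD {χ : Matrix.SpecialLinearGroup (Fin 2) F → ℂ}
    (hχ : IsIrrCharacter (Matrix.SpecialLinearGroup (Fin 2) F) χ)
    (θ : T.C →* ℂˣ) (hθ : θ = θ⁻¹) (hθ1 : θ ≠ 1) (h : classInner (T.X hodd θ) χ ≠ 0) :
    (∀ β : MulChar F ℂ, classInner (psR β) χ = 0) ∧
    (∀ θ' : T.C →* ℂˣ, classInner (T.X hodd θ') χ = if θ' = θ then 1 else 0) := by
  have : Fintype (T.C →* ℂˣ) := Fintype.ofFinite _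
  have : Fintype (MulChar F ℂ) := Fintype.ofFinite _
  refine ⟨T.halfD_psR hodd hχ θ hθ hθ1 h, ?_⟩
  have hMF := T.multiplicity_formula hodd χ (irr_cf hχ)
  simp_rw [T.halfD_psR hodd hχ θ hθ hθ1 h] at hMF
  rw [Finset.sum_eq_single θ (fun θ' _ hne => T.halfD_X hodd hχ θ hθ hθ1 h θ' hne)
    (fun hh => absurd (Finset.mem_univ _) hh)] at hMF
  obtain ⟨n, hn0, hn⟩ := Cfsg.Agent.Lib.Helper26.irr_degree hχ
  rw [hn, Complex.conj_natCast] at hMF
  have hq : 2 ≤ Fintype.card F := Fintype.one_lt_card
  have hm : classInner (T.X hodd θ) χ = 1 := by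
    rcases gen_norm_two_mult (T.X_isGen hodd θ) (T.X_norm_two hodd θ hθ) hχ h with h1 | h1
    · exact h1
    · exfalso
      rw [h1] at hMF
      simp only [Finset.sum_const_zero, mul_zero, add_zero] at hMF
      have h3 : ((2 * n + Fintype.card F : ℕ) : ℂ) = ((1 : ℕ) : ℂ) := by
        push_cast
        rw [← hMF]; ring
      have := Nat.cast_injective h3
      omega
  intro θ'
  split_ifs with h'
  · rw [h', hm]
  · exact T.halfD_X hodd hχ θ hθ hθ1 h θ' h'

/-- The classification of the irreducible characters. -/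
theorem classification {χ : Matrix.SpecialLinearGroup (Fin 2) F → ℂ}
    (hχ : IsIrrCharacter (Matrix.SpecialLinearGroup (Fin 2) F) χ) :
    χ = one' ∨ χ = St ∨ (∃ β : MulChar F ℂ, β ≠ β⁻¹ ∧ χ = psR β) ∨
    (∃ β : MulChar F ℂ, β = β⁻¹ ∧ β ≠ 1 ∧ classInner (psR β) χ ≠ 0) ∨
    (∃ θ : T.C →* ℂˣ, θ ≠ θ⁻¹ ∧ χ = T.X hodd θ) ∨
    (∃ θ : T.C →* ℂˣ, θ = θ⁻¹ ∧ θ ≠ 1 ∧ classInner (T.X hodd θ) χ ≠ 0) := by
  classical
  have : Fintype (T.C →* ℂˣ) := Fintype.ofFinite _
  have : Fintype (MulChar F ℂ) := Fintype.ofFinite _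
  have hMF := T.multiplicity_formula hodd χ (irr_cf hχ)
  have hex : (∃ β : MulChar F ℂ, classInner (psR β) χ ≠ 0) ∨
      (∃ θ : T.C →* ℂˣ, classInner (T.X hodd θ) χ ≠ 0) := by
    by_contra hcon
    push Not at hcon
    simp_rw [hcon.1, hcon.2] at hMF
    simp only [Finset.sum_const_zero, mul_zero, add_zero] at hMF
    apply irr_one_ne_zero hχ
    have := congrArg (starRingEnd ℂ) hMF
    simpa using this.symm
  rcases hex with ⟨β, hβne⟩ | ⟨θ, hθne⟩
  · by_cases hβ : β = β⁻¹
    · by_cases hβ1 : β = 1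
      · rw [hβ1, psR_one_eq, classInner_add_left] at hβne
        have : classInner one' χ ≠ 0 ∨ classInner St χ ≠ 0 := by
          by_contra hcon
          push Not at hcon
          apply hβne
          rw [hcon.1, hcon.2, add_zero]
        rcases eq_one'_or_St hχ this with h1 | h1
        · left; exact h1
        · right; left; exact h1
      · right; right; right; left
        exact ⟨β, hβ, hβ1, hβne⟩
    · right; right; left
      exact ⟨β, hβ, (irr_eq_of_inner_ne_zero (psR_irr β hβ) hχ hβne).symm⟩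
  · by_cases hθ : θ = θ⁻¹
    · by_cases hθ1 : θ = 1
      · rw [hθ1, T.X_one_eq hodd, classInner_sub_left] at hθne
        have : classInner one' χ ≠ 0 ∨ classInner St χ ≠ 0 := by
          by_contra hcon
          push Not at hcon
          apply hθne
          rw [hcon.1, hcon.2, sub_zero]
        rcases eq_one'_or_St hχ this with h1 | h1
        · left; exact h1
        · right; left; exact h1
      · right; right; right; right; right
        exact ⟨θ, hθ, hθ1, hθne⟩
    · right; right; right; right; left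
      exact ⟨θ, hθ, (irr_eq_of_inner_ne_zero (T.X_irr hodd θ hθ) hχ hθne).symm⟩

/-- degree of a constituent of `R(β)`, `β` quadratic -/
theorem degree_halfP {χ : Matrix.SpecialLinearGroup (Fin 2) F → ℂ}
    (hχ : IsIrrCharacter (Matrix.SpecialLinearGroup (Fin 2) F) χ)
    (β : MulChar F ℂ) (hβ : β = β⁻¹) (hβ1 : β ≠ 1) (h : classInner (psR β) χ ≠ 0) :
    χ 1 = ((Fintype.card F : ℂ) + 1) / 2 := by
  classical
  obtain ⟨T⟩ := exists_NSGen (F := F)
  have : Fintype (T.C →* ℂˣ) := Fintype.ofFinite _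
  have : Fintype (MulChar F ℂ) := Fintype.ofFinite _
  have hMF := T.multiplicity_formula hodd χ (irr_cf hχ)
  obtain ⟨h1, h2⟩ := T.profile_halfP hodd hχ β hβ hβ1 h
  simp_rw [h1, h2] at hMF
  rw [Finset.sum_ite_eq' Finset.univ β, if_pos (Finset.mem_univ _)] at hMF
  simp only [Finset.sum_const_zero, mul_zero, zero_add, mul_one] at hMF
  have := congrArg (starRingEnd ℂ) hMF
  simp only [Complex.conj_conj, map_div₀, map_add, Complex.conj_natCast, map_one, map_ofNat] at this
  exact this.symm

/-- degree of a constituent of `X(θ)`, `θ` quadratic -/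
theorem degree_halfD {χ : Matrix.SpecialLinearGroup (Fin 2) F → ℂ}
    (hχ : IsIrrCharacter (Matrix.SpecialLinearGroup (Fin 2) F) χ)
    (θ : T.C →* ℂˣ) (hθ : θ = θ⁻¹) (hθ1 : θ ≠ 1) (h : classInner (T.X hodd θ) χ ≠ 0) :
    χ 1 = ((Fintype.card F : ℂ) - 1) / 2 := by
  classical
  have : Fintype (T.C →* ℂˣ) := Fintype.ofFinite _
  have : Fintype (MulChar F ℂ) := Fintype.ofFinite _
  have hMF := T.multiplicity_formula hodd χ (irr_cf hχ)
  obtain ⟨h1, h2⟩ := T.profile_halfD hodd hχ θ hθ hθ1 h
  simp_rw [h1, h2] at hMF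
  rw [Finset.sum_ite_eq' Finset.univ θ, if_pos (Finset.mem_univ _)] at hMF
  simp only [Finset.sum_const_zero, mul_zero, add_zero, mul_one] at hMF
  have := congrArg (starRingEnd ℂ) hMF
  simp only [Complex.conj_conj, map_div₀, map_sub, Complex.conj_natCast, map_one, map_ofNat] at this
  exact this.symm

end odd

end NSGen

end Cfsg.Agent.Lib.Helper41
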