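import Cfsg.Agent.Lib.Helper41.SL2MF

/-!
# The characters of order two of `Fˣ` and of the non-split torus
-/

set_option autoImplicit false
set_option linter.unusedSectionVars false

namespace Cfsg.Agent.Lib.Helper41

open Cfsg Cfsg.Agent.Lib.Helper15
open scoped ComplexConjugate

variable {F : Type*} [Field F] [Fintype F] [DecidableEq F]

theorem mulChar_mul_self_of_eq_inv (α : MulChar F ℂ) (hα : α = α⁻¹) (a : F) (ha : a ≠ 0) :
    α a * α a = 1 := by
  nth_rewrite 2 [hα]
  rw [MulChar.inv_apply_eq_inv']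
  apply mul_inv_cancel₀
  intro h
  have : IsUnit (α a) := (IsUnit.mk0 a ha).map α
  rw [h] at this
  exact not_isUnit_zero this

theorem mulChar_quad_isSquare (α : MulChar F ℂ) (hα : α = α⁻¹) (a : F) (ha : a ≠ 0)
    (hsq : IsSquare a) : α a = 1 := by
  obtain ⟨b, rfl⟩ := hsq
  have hb : b ≠ 0 := by
    rintro rfl
    simp at ha
  rw [map_mul]
  exact mulChar_mul_self_of_eq_inv α hα b hb

theorem mulChar_quad_not_isSquare (α : MulChar F ℂ) (hα : α = α⁻¹) (h1 : α ≠ 1) (a : F)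
    (hsq : ¬ IsSquare a) : α a = -1 := by
  have ha : a ≠ 0 := by
    rintro rfl
    exact hsq (IsSquare.zero)
  have hpm : α a = 1 ∨ α a = -1 := by
    apply sq_eq_one_iff_of_side_aux
    rw [sq]
    exact mulChar_mul_self_of_eq_inv α hα a ha
  refine hpm.resolve_left ?_
  intro h
  apply h1
  ext b
  rw [MulChar.one_apply_coe]
  by_cases hb : IsSquare (b : F)
  · exact mulChar_quad_isSquare α hα _ b.ne_zero hb
  · have hab : IsSquare (a * (b : F)) := by
      rw [← quadraticChar_one_iff_isSquare (mul_ne_zero ha b.ne_zero), map_mul,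
        quadraticChar_neg_one_iff_not_isSquare.2 hsq, quadraticChar_neg_one_iff_not_isSquare.2 hb]
      norm_num
    have := mulChar_quad_isSquare α hα _ (mul_ne_zero ha b.ne_zero) hab
    rw [map_mul, h, one_mul] at this
    exact this

theorem mulChar_quad_unique (α α' : MulChar F ℂ) (hα : α = α⁻¹) (h1 : α ≠ 1)
    (hα' : α' = α'⁻¹) (h1' : α' ≠ 1) : α = α' := by
  ext b
  by_cases hb : IsSquare (b : F)
  · rw [mulChar_quad_isSquare α hα _ b.ne_zero hb, mulChar_quad_isSquare α' hα' _ b.ne_zero hb]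
  · rw [mulChar_quad_not_isSquare α hα h1 _ hb, mulChar_quad_not_isSquare α' hα' h1' _ hb]

theorem mulChar_quad_neg_one (α : MulChar F ℂ) (hα : α = α⁻¹) (h1 : α ≠ 1) :
    α (-1) = if Fintype.card F % 4 = 3 then -1 else 1 := by
  split_ifs with h
  · apply mulChar_quad_not_isSquare α hα h1
    rw [FiniteField.isSquare_neg_one_iff]
    simpa using h
  · apply mulChar_quad_isSquare α hα _ (by simp)
    rw [FiniteField.isSquare_neg_one_iff]
    exact h

namespace NSGen

variable (T : NSGen F)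

/-- the generator as an element of the torus -/
def gen : T.C := ⟨T.A, Subgroup.mem_zpowers _⟩

theorem gen_coe : ((T.gen : T.C) : Matrix.SpecialLinearGroup (Fin 2) F) = T.A := rfl

theorem exists_pow_gen (c : T.C) : ∃ k : ℕ, T.gen ^ k = c := by
  obtain ⟨k, hk⟩ := (T.mem_C_iff c).1 c.2
  exact ⟨k, Subtype.ext (by rw [Subgroup.coe_pow, gen_coe, hk])⟩

theorem orderOf_gen : orderOf T.gen = Fintype.card F + 1 := by
  rw [← Subgroup.orderOf_coe, gen_coe, T.orderOf_A]

theorem hom_ext_gen (θ θ' : T.C →* ℂˣ) (h : θ T.gen = θ' T.gen) : θ = θ' := by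
  ext c
  obtain ⟨k, rfl⟩ := T.exists_pow_gen c
  rw [map_pow, map_pow, h]

theorem theta_quad_gen (θ : T.C →* ℂˣ) (hθ : θ = θ⁻¹) (h1 : θ ≠ 1) : θ T.gen = -1 := by
  have hsq : θ T.gen * θ T.gen = 1 := by
    nth_rewrite 2 [hθ]
    rw [MonoidHom.inv_apply, mul_inv_cancel]
  have h2 : ((θ T.gen : ℂˣ) : ℂ) = 1 ∨ ((θ T.gen : ℂˣ) : ℂ) = -1 := by
    apply sq_eq_one_iff_of_side_aux
    rw [sq, ← Units.val_mul, hsq, Units.val_one]
  rcases h2 with h | h
  · exfalso
    apply h1
    apply T.hom_ext_gen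
    rw [MonoidHom.one_apply]
    exact Units.ext h
  · exact Units.ext (by rw [h]; simp)

theorem theta_quad_unique (θ θ' : T.C →* ℂˣ) (hθ : θ = θ⁻¹) (h1 : θ ≠ 1)
    (hθ' : θ' = θ'⁻¹) (h1' : θ' ≠ 1) : θ = θ' :=
  T.hom_ext_gen θ θ' (by rw [T.theta_quad_gen θ hθ h1, T.theta_quad_gen θ' hθ' h1'])

section odd
variable (hodd : Fintype.card F % 2 = 1)
include hodd

theorem negC_eq_pow : T.negC hodd = T.gen ^ ((Fintype.card F + 1) / 2) := by
  apply Subtype.ext
  rw [negC_coe, Subgroup.coe_pow, gen_coe]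
  exact T.neg_one_eq_pow hodd

theorem theta_quad_neg (θ : T.C →* ℂˣ) (hθ : θ = θ⁻¹) (h1 : θ ≠ 1) :
    ((θ (T.negC hodd) : ℂˣ) : ℂ) = if Fintype.card F % 4 = 3 then 1 else -1 := by
  rw [T.negC_eq_pow hodd, map_pow, T.theta_quad_gen θ hθ h1]
  simp only [Units.val_pow_eq_pow_val, Units.val_neg, Units.val_one]
  split_ifs with h
  · have : Even ((Fintype.card F + 1) / 2) := by
      rw [Nat.even_iff]; omega
    exact this.neg_one_pow
  · have : Odd ((Fintype.card F + 1) / 2) := by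
      rw [Nat.odd_iff]; omega
    exact this.neg_one_pow

/-- the two quadratic characters have opposite central signs -/
theorem quad_sign (α : MulChar F ℂ) (hα : α = α⁻¹) (hα1 : α ≠ 1)
    (θ : T.C →* ℂˣ) (hθ : θ = θ⁻¹) (h1 : θ ≠ 1) :
    α (-1) * ((θ (T.negC hodd) : ℂˣ) : ℂ) = -1 := by
  rw [mulChar_quad_neg_one α hα hα1, T.theta_quad_neg hodd θ hθ h1]
  split_ifs <;> norm_num

theorem theta_quad_apply (θ : T.C →* ℂˣ) (hθ : θ = θ⁻¹) (h1 : θ ≠ 1) (c : T.C) :
    ((θ c : ℂˣ) : ℂ) = if c ^ ((Fintype.card F + 1) / 2) = 1 then 1 else -1 := by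
  obtain ⟨k, rfl⟩ := T.exists_pow_gen c
  rw [map_pow, T.theta_quad_gen θ hθ h1]
  simp only [Units.val_pow_eq_pow_val, Units.val_neg, Units.val_one]
  have hiff : (T.gen ^ k) ^ ((Fintype.card F + 1) / 2) = 1 ↔ Even k := by
    rw [← pow_mul, ← orderOf_dvd_iff_pow_eq_one, T.orderOf_gen]
    obtain ⟨m, hm⟩ : ∃ m, (Fintype.card F + 1) / 2 = m := ⟨_, rfl⟩
    have h2 : Fintype.card F + 1 = 2 * m := by omega
    have hpos : 0 < m := by omega
    rw [hm, h2]
    constructor
    · intro h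
      have h3 : m * 2 ∣ m * k := by
        rw [mul_comm m 2, mul_comm m k]; exact h
      have := Nat.dvd_of_mul_dvd_mul_left hpos h3
      exact (even_iff_two_dvd).2 this
    · rintro ⟨j, rfl⟩
      exact ⟨j, by ring⟩
  split_ifs with h
  · exact (hiff.1 h).neg_one_pow
  · have : Odd k := by
      rw [← Nat.not_even_iff_odd]
      exact fun hk => h (hiff.2 hk)
    exact this.neg_one_pow

end odd

end NSGen

end Cfsg.Agent.Lib.Helper41
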